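import Mathlib.CategoryTheory.Triangulated.Pretriangulated
import Mathlib.CategoryTheory.Retract

/-! # The cone of the complementary idempotent of a retract -/

set_option autoImplicit false
universe v u

open CategoryTheory CategoryTheory.Limits CategoryTheory.Pretriangulated

namespace GrothLib.TriCat

variable {D : Type u} [Category.{v} D] [Preadditive D] [HasZeroObject D] [HasShift D ℤ]
  [∀ n : ℤ, (shiftFunctor D n).Additive] [Pretriangulated D]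

/-- The cone of `1 - ri` is `F ⊞ F[1]`. -/
theorem nonempty_cone_compl {F G C : D} (r : Retract F G) {m₂ : G ⟶ C} {m₃ : C ⟶ G⟦(1 : ℤ)⟧}
    (hT : Triangle.mk (𝟙 G - r.r ≫ r.i) m₂ m₃ ∈ distTriang D) [HasBinaryBiproduct F (F⟦(1 : ℤ)⟧)] :
    Nonempty (C ≅ F ⊞ F⟦(1 : ℤ)⟧) := by
  let S := shiftFunctor D (1 : ℤ)
  have hre : (𝟙 G - r.r ≫ r.i) ≫ r.r = 0 := by
    rw [Preadditive.sub_comp, Category.id_comp, Category.assoc, r.retract, Category.comp_id, sub_self]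
  have hie : r.i ≫ (𝟙 G - r.r ≫ r.i) = 0 := by
    rw [Preadditive.comp_sub, Category.comp_id, r.retract_assoc, sub_self]
  obtain ⟨ρ, hρ⟩ : ∃ ρ : C ⟶ F, r.r = m₂ ≫ ρ := Triangle.yoneda_exact₂ _ hT r.r hre
  obtain ⟨σ, hσ⟩ : ∃ σ : S.obj F ⟶ C, S.map r.i = σ ≫ m₃ := Triangle.coyoneda_exact₁ _ hT (S.map r.i) (by
    change S.map r.i ≫ S.map (𝟙 G - r.r ≫ r.i) = 0
    rw [← S.map_comp, hie, S.map_zero])
  let Φ : C ⟶ F ⊞ F⟦(1 : ℤ)⟧ := biprod.lift ρ (m₃ ≫ S.map r.r)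
  have hmono : Mono Φ := Preadditive.mono_of_cancel_zero _ fun {Z} x hx => by
    have hx₁ : x ≫ ρ = 0 := by simpa [Φ] using congrArg (· ≫ biprod.fst) hx
    have hx₂ : x ≫ m₃ ≫ S.map r.r = 0 := by simpa [Φ] using congrArg (· ≫ biprod.snd) hx
    have hx₃ : (x ≫ m₃) ≫ S.map (𝟙 G - r.r ≫ r.i) = 0 := by
      rw [Category.assoc]
      exact (congrArg (x ≫ ·) (comp_distTriang_mor_zero₃₁ _ hT)).trans comp_zero
    have hx₄ : x ≫ m₃ = 0 := by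
      rw [S.map_sub, S.map_id, Preadditive.comp_sub, Category.comp_id, sub_eq_zero] at hx₃
      rw [hx₃, S.map_comp, Category.assoc, reassoc_of% hx₂, zero_comp]
    obtain ⟨z, hz⟩ : ∃ z : Z ⟶ G, x = z ≫ m₂ := Triangle.coyoneda_exact₃ _ hT x hx₄
    have hz₁ : z ≫ r.r = 0 := by rw [hρ, ← Category.assoc, ← hz, hx₁]
    have hz₂ : z ≫ (𝟙 G - r.r ≫ r.i) = z := by
      rw [Preadditive.comp_sub, Category.comp_id, reassoc_of% hz₁, zero_comp, sub_zero]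
    rw [hz, ← hz₂, Category.assoc]
    exact (congrArg (z ≫ ·) (comp_distTriang_mor_zero₁₂ _ hT)).trans comp_zero
  -- a right inverse
  let Ψ : (F ⊞ F⟦(1 : ℤ)⟧) ⟶ C := biprod.desc (r.i ≫ m₂) (σ - (σ ≫ ρ) ≫ r.i ≫ m₂)
  have h₁₁ : r.i ≫ m₂ ≫ ρ = 𝟙 F := by rw [← hρ, r.retract]
  have h₂₃ : m₂ ≫ m₃ = 0 := comp_distTriang_mor_zero₂₃ _ hT
  have hΨ : Ψ ≫ Φ = 𝟙 _ := by
    refine biprod.hom_ext' _ _ ?_ ?_ <;> refine biprod.hom_ext _ _ ?_ ?_ <;>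
      simp only [Ψ, Φ, Category.assoc, biprod.inl_desc_assoc, biprod.inr_desc_assoc, biprod.lift_fst,
        biprod.lift_snd, biprod.inl_fst, biprod.inl_snd, biprod.inr_fst, biprod.inr_snd, Category.comp_id,
        Preadditive.sub_comp, h₁₁, reassoc_of% h₂₃, zero_comp, comp_zero, sub_self, sub_zero]
    rw [← Category.assoc, ← hσ, ← S.map_comp, r.retract, S.map_id]
  have : IsSplitEpi Φ := ⟨⟨⟨Ψ, hΨ⟩⟩⟩
  have : IsIso Φ := isIso_of_mono_of_isSplitEpi Φ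
  exact ⟨asIso Φ⟩

end GrothLib.TriCat
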