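import Mathlib.CategoryTheory.Triangulated.Pretriangulated
import Mathlib.CategoryTheory.Limits.Preserves.Shapes.Products
import Mathlib.CategoryTheory.Shift.Basic

/-! # Coproducts of distinguished triangles -/

universe w v u

open CategoryTheory CategoryTheory.Limits CategoryTheory.Pretriangulated

namespace GrothLib.TriCat

variable {D : Type u} [Category.{v} D] [HasShift D ℤ]

/-- Maps out of a shifted coproduct are determined by, and can be prescribed on, summands. -/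
theorem shift_coprod_hom_ext {J : Type w} (X : J → D) [HasCoproduct X] (n : ℤ) {A : D}
    {a b : (∐ X)⟦n⟧ ⟶ A}
    (h : ∀ j, (Sigma.ι X j)⟦n⟧' ≫ a = (Sigma.ι X j)⟦n⟧' ≫ b) : a = b :=
  Cofan.IsColimit.hom_ext
    (isColimitCofanMkObjOfIsColimit (shiftFunctor D n) X (Sigma.ι X) (coproductIsCoproduct X))
    a b h

theorem shift_coprod_desc {J : Type w} (X : J → D) [HasCoproduct X] (n : ℤ) {A : D}
    (h : ∀ j, (X j)⟦n⟧ ⟶ A) : ∃ a : (∐ X)⟦n⟧ ⟶ A, ∀ j, (Sigma.ι X j)⟦n⟧' ≫ a = h j := by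
  let hc := isColimitCofanMkObjOfIsColimit (shiftFunctor D n) X (Sigma.ι X) (coproductIsCoproduct X)
  exact ⟨Cofan.IsColimit.desc hc h, fun j => Cofan.IsColimit.fac hc h j⟩

variable [Preadditive D] [HasZeroObject D] [∀ n : ℤ, (shiftFunctor D n).Additive] [Pretriangulated D]

/-- The coproduct of a family of triangles. -/
noncomputable abbrev sigmaTriangle {J : Type w} (T : J → Triangle D)
    [HasCoproduct (fun j => (T j).obj₁)] [HasCoproduct (fun j => (T j).obj₂)]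
    [HasCoproduct (fun j => (T j).obj₃)] : Triangle D :=
  Triangle.mk (Limits.Sigma.map (fun j => (T j).mor₁)) (Limits.Sigma.map (fun j => (T j).mor₂))
    (Sigma.desc (fun j => (T j).mor₃ ≫
      (shiftFunctor D (1 : ℤ)).map (Sigma.ι (fun j => (T j).obj₁) j)))

theorem sigmaTriangle_distinguished {J : Type w} (T : J → Triangle D)
    (hT : ∀ j, T j ∈ distTriang D)
    [HasCoproduct (fun j => (T j).obj₁)] [HasCoproduct (fun j => (T j).obj₂)]
    [HasCoproduct (fun j => (T j).obj₃)] : sigmaTriangle T ∈ distTriang D := by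
  obtain ⟨Z, f₂, f₃, hT'⟩ := distinguished_cocone_triangle (Limits.Sigma.map (fun j => (T j).mor₁))
  have hφ : ∀ j, ∃ c : (T j).obj₃ ⟶ Z,
      (T j).mor₂ ≫ c = Sigma.ι (fun j => (T j).obj₂) j ≫ f₂ ∧
      (T j).mor₃ ≫ (Sigma.ι (fun j => (T j).obj₁) j)⟦(1 : ℤ)⟧' = c ≫ f₃ := fun j =>
    complete_distinguished_triangle_morphism (T j) _ (hT j) hT'
      (Sigma.ι (fun j => (T j).obj₁) j) (Sigma.ι (fun j => (T j).obj₂) j)
      (Sigma.ι_map (fun j => (T j).mor₁) j).symm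
  choose c hc₁ hc₂ using hφ
  let g₂ := Limits.Sigma.map (fun j => (T j).mor₂)
  let g₃ := Sigma.desc (fun j => (T j).mor₃ ≫
      (shiftFunctor D (1 : ℤ)).map (Sigma.ι (fun j => (T j).obj₁) j))
  have h₂ : g₂ ≫ Sigma.desc c = f₂ := by
    refine Sigma.hom_ext _ _ fun j => ?_
    rw [← Category.assoc, Sigma.ι_map, Category.assoc, Sigma.ι_desc, hc₁]
  have h₃ : g₃ = Sigma.desc c ≫ f₃ := by
    refine Sigma.hom_ext _ _ fun j => ?_
    rw [Sigma.ι_desc, Sigma.ι_desc_assoc, hc₂]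
  have hf₁ : f₃ ≫ (Limits.Sigma.map (fun j => (T j).mor₁))⟦(1 : ℤ)⟧' = 0 :=
    comp_distTriang_mor_zero₃₁ _ hT'
  have : IsIso (Sigma.desc c) := by
    refine isIso_of_coyoneda_map_bijective _ (fun A => ⟨?_, ?_⟩)
    · intro a b hab
      obtain ⟨d, rfl⟩ : ∃ d, a = b + d := ⟨a - b, by abel⟩
      have hd : Sigma.desc c ≫ d = 0 := by simpa using hab
      have hd' : f₂ ≫ d = 0 := by rw [← h₂, Category.assoc, hd, comp_zero]
      obtain ⟨u, rfl⟩ : ∃ u : (∐ fun j => (T j).obj₁)⟦(1 : ℤ)⟧ ⟶ A, d = f₃ ≫ u :=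
        Triangle.yoneda_exact₃ _ hT' d hd'
      have hv : ∀ j, ∃ v : (T j).obj₂⟦(1 : ℤ)⟧ ⟶ A,
          (Sigma.ι (fun j => (T j).obj₁) j)⟦(1 : ℤ)⟧' ≫ u = (T j).mor₁⟦(1 : ℤ)⟧' ≫ v := by
        intro j
        have h0 : (T j).mor₃ ≫ (Sigma.ι (fun j => (T j).obj₁) j)⟦(1 : ℤ)⟧' ≫ u = 0 := by
          rw [← Category.assoc, hc₂, Category.assoc, ← Sigma.ι_desc c j, Category.assoc, hd,
            comp_zero]
        obtain ⟨v, hv⟩ : ∃ v : (T j).obj₂⟦(1 : ℤ)⟧ ⟶ A,
            (Sigma.ι (fun j => (T j).obj₁) j)⟦(1 : ℤ)⟧' ≫ u = (-(T j).mor₁⟦(1 : ℤ)⟧') ≫ v :=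
          Triangle.yoneda_exact₃ _ (rot_of_distTriang _ (hT j)) _ h0
        exact ⟨-v, by rw [hv, Preadditive.neg_comp, Preadditive.comp_neg]⟩
      choose v hv using hv
      obtain ⟨w, hw⟩ := shift_coprod_desc (fun j => (T j).obj₂) 1 v
      have : u = (Limits.Sigma.map (fun j => (T j).mor₁))⟦(1 : ℤ)⟧' ≫ w := by
        refine shift_coprod_hom_ext _ _ fun j => ?_
        rw [hv j, ← hw j, ← Category.assoc, ← Functor.map_comp, ← Category.assoc,
          ← Functor.map_comp, Sigma.ι_map]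
      rw [this, reassoc_of% hf₁, zero_comp]
      exact add_zero b
    · intro b
      obtain ⟨a', ha'⟩ : ∃ a' : Z ⟶ A, g₂ ≫ b = f₂ ≫ a' :=
        Triangle.yoneda_exact₂ _ hT' (g₂ ≫ b) (by
          change Limits.Sigma.map (fun j => (T j).mor₁) ≫ g₂ ≫ b = 0
          refine Sigma.hom_ext _ _ fun j => ?_
          rw [comp_zero, ← Category.assoc, Sigma.ι_map, Category.assoc,
            ← Category.assoc (Sigma.ι _ _) g₂, Sigma.ι_map, Category.assoc,
            reassoc_of% (comp_distTriang_mor_zero₁₂ _ (hT j)), zero_comp])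
      have hw : ∀ j, ∃ w : (T j).obj₁⟦(1 : ℤ)⟧ ⟶ A,
          Sigma.ι (fun j => (T j).obj₃) j ≫ (b - Sigma.desc c ≫ a') = (T j).mor₃ ≫ w := by
        intro j
        refine Triangle.yoneda_exact₃ _ (hT j) _ ?_
        have e : g₂ ≫ (b - Sigma.desc c ≫ a') = 0 := by
          rw [Preadditive.comp_sub, ha', ← Category.assoc, h₂, sub_self]
        rw [← Category.assoc, ← Sigma.ι_map (fun j => (T j).mor₂) j, Category.assoc, e, comp_zero]
      choose w hw using hw
      obtain ⟨W, hW⟩ := shift_coprod_desc (fun j => (T j).obj₁) 1 w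
      have e : b - Sigma.desc c ≫ a' = g₃ ≫ W := by
        refine Sigma.hom_ext _ _ fun j => ?_
        rw [hw j, ← hW j, Sigma.ι_desc_assoc, Category.assoc]
      refine ⟨a' + f₃ ≫ W, ?_⟩
      change Sigma.desc c ≫ (a' + f₃ ≫ W) = b
      rw [Preadditive.comp_add, ← Category.assoc, ← h₃, ← e]
      abel
  exact isomorphic_distinguished _ hT' _ (Triangle.isoMk _ _ (Iso.refl _) (Iso.refl _)
    (@asIso D _ _ Z (Sigma.desc c) this)
    ((Category.comp_id _).trans (Category.id_comp _).symm)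
    (show g₂ ≫ Sigma.desc c = 𝟙 _ ≫ f₂ by rw [Category.id_comp]; exact h₂)
    (show g₃ ≫ (𝟙 _)⟦(1 : ℤ)⟧' = Sigma.desc c ≫ f₃ by
      rw [CategoryTheory.Functor.map_id, Category.comp_id]; exact h₃))

end GrothLib.TriCat
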