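import Groth.Agent.Lib.TriCat.ThickProp
import Mathlib.CategoryTheory.Linear.LinearFunctor
import Mathlib.CategoryTheory.Triangulated.TriangleShift
import Mathlib.CategoryTheory.Retract

/-! # Torsion morphisms in linear triangulated categories; retracts of cones -/

set_option autoImplicit false

universe t v u

open CategoryTheory CategoryTheory.Limits CategoryTheory.Pretriangulated

namespace GrothLib.TriCat

variable {D : Type u} [Category.{v} D] [Preadditive D] [HasZeroObject D] [HasShift D ℤ]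
  [∀ n : ℤ, (shiftFunctor D n).Additive] [Pretriangulated D]

/-- A retract of two objects with a compatible map gives a retract of the cones. -/
theorem exists_retract_cone {T T' : Triangle D} (hT : T ∈ distTriang D) (hT' : T' ∈ distTriang D)
    (a : Retract T.obj₁ T'.obj₁) (b : Retract T.obj₂ T'.obj₂)
    (hi : T.mor₁ ≫ b.i = a.i ≫ T'.mor₁) (hr : T'.mor₁ ≫ b.r = a.r ≫ T.mor₁) :
    Nonempty (Retract T.obj₃ T'.obj₃) := by
  let u := completeDistinguishedTriangleMorphism T T' hT hT' a.i b.i hi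
  let w := completeDistinguishedTriangleMorphism T' T hT' hT a.r b.r hr
  have : IsIso (u ≫ w).hom₁ := by
    change IsIso (a.i ≫ a.r); rw [a.retract]; infer_instance
  have : IsIso (u ≫ w).hom₂ := by
    change IsIso (b.i ≫ b.r); rw [b.retract]; infer_instance
  have h3 : IsIso (u ≫ w).hom₃ := isIso₃_of_isIso₁₂ (u ≫ w) hT hT inferInstance inferInstance
  exact ⟨{ i := u.hom₃, r := w.hom₃ ≫ inv (u ≫ w).hom₃,
           retract := by rw [← Category.assoc]; exact IsIso.hom_inv_id (u ≫ w).hom₃ }⟩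

variable {R : Type t} [CommRing R] [Linear R D]

/-- Every map from a shift of `P` to `E` is killed by a power of `f`. -/
def TorsionHom (f : R) (E : D) (P : D) : Prop :=
  ∀ (n : ℤ) (φ : P⟦n⟧ ⟶ E), ∃ k : ℕ, f ^ k • φ = 0

variable {f : R} {E : D}

theorem torsion_of_iso {A B : D} (e : A ≅ B) (h : ∀ φ : A ⟶ E, ∃ k : ℕ, f ^ k • φ = 0) (φ : B ⟶ E) :
    ∃ k : ℕ, f ^ k • φ = 0 := by
  obtain ⟨k, hk⟩ := h (e.hom ≫ φ)
  refine ⟨k, ?_⟩
  rw [← cancel_epi e.hom, Linear.comp_smul, hk, comp_zero]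

theorem thick_torsionHom (f : R) (E : D) : Thick (TorsionHom f E) where
  zero h n φ := ⟨0, ((shiftFunctor D n).map_isZero h).eq_of_src _ _⟩
  shift {A} n hA m φ := torsion_of_iso ((shiftFunctorAdd D n m).app A) (hA (n + m)) φ
  total {A B C} i₁ p₁ i₂ p₂ h hA hB n φ := by
    obtain ⟨k, hk⟩ := hA n (i₁⟦n⟧' ≫ φ)
    obtain ⟨l, hl⟩ := hB n (i₂⟦n⟧' ≫ φ)
    refine ⟨k + l, ?_⟩
    have hφ : φ = p₁⟦n⟧' ≫ i₁⟦n⟧' ≫ φ + p₂⟦n⟧' ≫ i₂⟦n⟧' ≫ φ := by
      rw [← Category.assoc, ← Category.assoc, ← Functor.map_comp, ← Functor.map_comp, ← Preadditive.add_comp,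
        ← Functor.map_add, h, CategoryTheory.Functor.map_id, Category.id_comp]
    rw [hφ, smul_add, ← Linear.comp_smul _ _ _ (p₁⟦n⟧') _ (i₁⟦n⟧' ≫ φ),
      ← Linear.comp_smul _ _ _ (p₂⟦n⟧') _ (i₂⟦n⟧' ≫ φ), pow_add,
      show (f ^ k * f ^ l) • (i₁⟦n⟧' ≫ φ) = 0 by rw [mul_comm, mul_smul, hk, smul_zero],
      show (f ^ k * f ^ l) • (i₂⟦n⟧' ≫ φ) = 0 by rw [mul_smul, hl, smul_zero],
      comp_zero, comp_zero, add_zero]
  cone T hT hA hB n φ := by
    have hT' := Triangle.shift_distinguished _ hT n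
    let S := (Triangle.shiftFunctor D n).obj T
    let φ' : S.obj₃ ⟶ E := φ
    obtain ⟨k, hk⟩ := hB n (S.mor₂ ≫ φ')
    obtain ⟨ψ, hψ⟩ := Triangle.yoneda_exact₃ S hT' (f ^ k • φ')
      ((Linear.comp_smul _ _ _ _ _ _).trans hk)
    obtain ⟨l, hl⟩ := torsion_of_iso ((shiftFunctorAdd D n 1).app T.obj₁) (hA (n + 1)) ψ
    refine ⟨l + k, ?_⟩
    change f ^ (l + k) • φ' = 0
    rw [pow_add, mul_smul, hψ, ← Linear.comp_smul]
    exact (congrArg (fun χ => S.mor₃ ≫ χ) hl).trans comp_zero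

/-- A map killed by `g` factors through the cone of `g`. -/
theorem exists_factor_cone {T : Triangle D} (hT : T ∈ distTriang D) {g : R} {C : D} (φ : T.obj₂ ⟶ C)
    (a : T.obj₁ ≅ T.obj₂) (ha : T.mor₁ = g • a.hom) (hφ : g • φ = 0) : ∃ ψ : T.obj₃ ⟶ C, φ = T.mor₂ ≫ ψ :=
  T.yoneda_exact₂ hT φ (by rw [ha, Linear.smul_comp, ← Linear.comp_smul, hφ, comp_zero])

/-- If nothing maps from the cone of `f` and `f` acts nilpotently, nothing maps from the object. -/
theorem eq_zero_of_cone_torsion [∀ n : ℤ, (shiftFunctor D n).Linear R] {P P₁ : D} {m₂ : P ⟶ P₁} {m₃ : P₁ ⟶ P⟦(1 : ℤ)⟧}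
    (hT : Triangle.mk (f • 𝟙 P) m₂ m₃ ∈ distTriang D) (htor : TorsionHom f E P)
    (hzero : ∀ (n : ℤ) (φ : P₁⟦n⟧ ⟶ E), φ = 0) (n : ℤ) (φ : P⟦n⟧ ⟶ E) : φ = 0 := by
  have hinj : ∀ χ : P⟦n⟧ ⟶ E, f • χ = 0 → χ = 0 := by
    intro χ hχ
    obtain ⟨ψ, hψ⟩ := Triangle.yoneda_exact₂ _ (Triangle.shift_distinguished _ hT n) χ (by
      change (n.negOnePow • (f • 𝟙 P)⟦n⟧') ≫ χ = 0
      rw [Functor.map_smul, CategoryTheory.Functor.map_id, Linear.units_smul_comp, Linear.smul_comp,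
        Category.id_comp, hχ, smul_zero])
    exact hψ.trans ((congrArg _ (hzero n ψ)).trans comp_zero)
  obtain ⟨k, hk⟩ := htor n φ
  induction k generalizing φ with
  | zero => rwa [pow_zero, one_smul] at hk
  | succ k ih => exact hinj φ (ih (f • φ) (by rwa [← mul_smul, ← pow_succ]))

end GrothLib.TriCat
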