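import Groth.Prelude.Def_CohDer
import Groth.Agent.Lib.TriCat.Coproduct
import Mathlib.CategoryTheory.Triangulated.Subcategory
import Mathlib.CategoryTheory.Triangulated.Generators
import Mathlib.CategoryTheory.Limits.Shapes.ZeroMorphisms

/-! # Compact objects: finite-support form, closure properties -/

universe v u

open CategoryTheory CategoryTheory.Limits CategoryTheory.Pretriangulated

namespace GrothLib.TriCat

variable {D : Type u} [Category.{v} D] [Preadditive D]

open Classical in
/-- The idempotent of `∐ X` which is the identity on the summands in `s` and zero elsewhere. -/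
noncomputable def supp {J : Type v} (X : J → D) [HasCoproduct X] (s : Finset J) : (∐ X) ⟶ ∐ X :=
  Sigma.desc fun j => if j ∈ s then Sigma.ι X j else 0

open Classical in
theorem ι_supp {J : Type v} (X : J → D) [HasCoproduct X] (s : Finset J) (j : J) :
    Sigma.ι X j ≫ supp X s = if j ∈ s then Sigma.ι X j else 0 := by
  simp [supp]

open Classical in
theorem one_sub_supp_mul {J : Type v} (X : J → D) [HasCoproduct X] (s t : Finset J) :
    (𝟙 _ - supp X s) ≫ (𝟙 _ - supp X t) = 𝟙 _ - supp X (s ∪ t) := by
  refine Sigma.hom_ext _ _ fun j => ?_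
  simp only [Preadditive.sub_comp, Preadditive.comp_sub, Category.id_comp, Category.comp_id,
    ← Category.assoc, ι_supp, Finset.mem_union]
  by_cases h₁ : j ∈ s <;> by_cases h₂ : j ∈ t <;> simp [h₁, h₂, ι_supp]

open Classical in
theorem supp_eq_sum {J : Type v} (X : J → D) [HasCoproduct X] (s : Finset J) :
    supp X s = ∑ j ∈ s, Sigma.π X j ≫ Sigma.ι X j := by
  refine Sigma.hom_ext _ _ fun k => ?_
  rw [ι_supp, Preadditive.comp_sum]
  by_cases h : k ∈ s
  · rw [if_pos h, Finset.sum_eq_single k ?_ (fun h' => absurd h h')]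
    · rw [← Category.assoc, Sigma.ι_π_eq_id, Category.id_comp]
    · intro j _ hj
      rw [← Category.assoc, Sigma.ι_π_of_ne X (Ne.symm hj), zero_comp]
  · rw [if_neg h, Finset.sum_eq_zero]
    intro j hj
    have : k ≠ j := fun e => h (e ▸ hj)
    rw [← Category.assoc, Sigma.ι_π_of_ne X this, zero_comp]

/-- Finite-support form of compactness. -/
def HasFiniteSupport [HasCoproducts.{v} D] (K : D) : Prop :=
  ∀ (J : Type v) (X : J → D) (b : K ⟶ ∐ X), ∃ s : Finset J, b ≫ supp X s = b

variable [HasCoproducts.{v} D]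

open Classical in
theorem homSumToHomCoprod_of (K : D) {J : Type v} (X : J → D) (j : J) (x : K ⟶ X j) :
    CohDer.homSumToHomCoprod K X (DirectSum.of _ j x) = x ≫ Sigma.ι X j := by
  simp [CohDer.homSumToHomCoprod, Preadditive.rightComp]

theorem isCompactObject_iff_hasFiniteSupport (K : D) :
    CohDer.IsCompactObject K ↔ HasFiniteSupport K := by
  classical
  constructor
  · intro h J X b
    obtain ⟨d, rfl⟩ := (h J X).2 b
    refine ⟨DFinsupp.support d, ?_⟩
    have hd : CohDer.homSumToHomCoprod K X d =
        ∑ j ∈ DFinsupp.support d, d j ≫ Sigma.ι X j := by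
      conv_lhs => rw [← DFinsupp.sum_single (f := d)]
      rw [DFinsupp.sum, map_sum]
      exact Finset.sum_congr rfl fun j _ => homSumToHomCoprod_of K X j (d j)
    rw [hd, Preadditive.sum_comp]
    refine Finset.sum_congr rfl fun j hj => ?_
    rw [Category.assoc, ι_supp, if_pos hj]
  · intro h J X
    have key : ∀ (d : DirectSum J fun j => K ⟶ X j) (k : J),
        CohDer.homSumToHomCoprod K X d ≫ Sigma.π X k = d k := by
      intro d k
      induction d using DirectSum.induction_on with
      | zero => simp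
      | of j x =>
        have e : CohDer.homSumToHomCoprod K X (DirectSum.of _ j x) = x ≫ Sigma.ι X j :=
          homSumToHomCoprod_of K X j x
        rw [e, Category.assoc]
        by_cases hj : j = k
        · subst hj; rw [Sigma.ι_π_eq_id, Category.comp_id, DirectSum.of_eq_same]
        · rw [Sigma.ι_π_of_ne X hj, comp_zero, DirectSum.of_eq_of_ne _ _ _ (Ne.symm hj)]
      | add a b ha hb => rw [map_add, Preadditive.add_comp, ha, hb, DirectSum.add_apply]
    refine ⟨fun a b hab => DFinsupp.ext fun k => ?_, fun b => ?_⟩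
    · rw [← key a k, hab, key b k]
    · obtain ⟨s, hs⟩ := h J X b
      refine ⟨∑ j ∈ s, DirectSum.of (fun j => K ⟶ X j) j (b ≫ Sigma.π X j), ?_⟩
      have e : ∀ j, CohDer.homSumToHomCoprod K X (DirectSum.of _ j (b ≫ Sigma.π X j)) =
          (b ≫ Sigma.π X j) ≫ Sigma.ι X j := fun j => homSumToHomCoprod_of K X j _
      rw [map_sum, Finset.sum_congr rfl fun j _ => e j]
      conv_rhs => rw [← hs, supp_eq_sum, Preadditive.comp_sum]
      exact Finset.sum_congr rfl fun j _ => Category.assoc _ _ _

theorem hasFiniteSupport_of_iso {K L : D} (e : K ≅ L) (h : HasFiniteSupport K) :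
    HasFiniteSupport L := by
  intro J X b
  obtain ⟨s, hs⟩ := h J X (e.hom ≫ b)
  exact ⟨s, by rwa [Category.assoc, cancel_epi] at hs⟩

variable [HasShift D ℤ] [∀ n : ℤ, (shiftFunctor D n).Additive]

theorem hasFiniteSupport_shift {K : D} (h : HasFiniteSupport K) (m : ℤ) :
    HasFiniteSupport (K⟦m⟧) := by
  classical
  intro J X b
  let adj := (shiftEquiv D m).toAdjunction
  let b' : K ⟶ (∐ X)⟦-m⟧ := adj.homEquiv _ _ b
  obtain ⟨s, hs⟩ := h J (fun j => (X j)⟦-m⟧) (b' ≫ inv (sigmaComparison (shiftFunctor D (-m)) X))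
  refine ⟨s, ?_⟩
  have e : supp (fun j => (X j)⟦-m⟧) s ≫ sigmaComparison (shiftFunctor D (-m)) X =
      sigmaComparison (shiftFunctor D (-m)) X ≫ (supp X s)⟦-m⟧' := by
    refine Sigma.hom_ext _ _ fun j => ?_
    rw [← Category.assoc, ι_supp, ← Category.assoc, ι_comp_sigmaComparison, ← Functor.map_comp,
      ι_supp]
    by_cases hj : j ∈ s
    · rw [if_pos hj, if_pos hj, ι_comp_sigmaComparison]
    · rw [if_neg hj, if_neg hj, zero_comp, Functor.map_zero]
  have hb : b' ≫ (supp X s)⟦-m⟧' = b' := by
    have := congrArg (fun x => x ≫ sigmaComparison (shiftFunctor D (-m)) X) hs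
    simpa [e] using this
  apply (adj.homEquiv _ _).injective
  erw [adj.homEquiv_naturality_right]
  exact hb

variable [HasZeroObject D] [Pretriangulated D]

theorem hasFiniteSupport_ext₂ (T : Triangle D) (hT : T ∈ distTriang D)
    (h₁ : HasFiniteSupport T.obj₁) (h₃ : HasFiniteSupport T.obj₃) : HasFiniteSupport T.obj₂ := by
  classical
  intro J X b
  obtain ⟨s, hs⟩ := h₁ J X (T.mor₁ ≫ b)
  obtain ⟨c, hc⟩ := Triangle.yoneda_exact₂ _ hT (b ≫ (𝟙 _ - supp X s)) (by
    simp [Preadditive.comp_sub, ← Category.assoc, hs])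
  obtain ⟨t, ht⟩ := h₃ J X c
  refine ⟨s ∪ t, ?_⟩
  have : b ≫ (𝟙 _ - supp X (s ∪ t)) = 0 := by
    rw [← one_sub_supp_mul, ← Category.assoc, hc, Category.assoc, Preadditive.comp_sub,
      Category.comp_id, ht, sub_self, comp_zero]
  rw [Preadditive.comp_sub, Category.comp_id, sub_eq_zero] at this
  exact this.symm

instance isTriangulated_hasFiniteSupport :
    ObjectProperty.IsTriangulated (fun K : D => HasFiniteSupport K) :=
  have : ObjectProperty.IsClosedUnderIsomorphisms (fun K : D => HasFiniteSupport K) :=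
    ⟨fun e h => hasFiniteSupport_of_iso e h⟩
  { exists_zero := ⟨_, isZero_zero D, fun J X b => ⟨∅, (isZero_zero D).eq_of_src _ _⟩⟩
    isStableUnderShiftBy := fun m => ⟨fun K hK => hasFiniteSupport_shift hK m⟩
    ext₂' := (ObjectProperty.IsTriangulatedClosed₂.mk' hasFiniteSupport_ext₂).ext₂' }

theorem isTriangulated_isCompactObject :
    ObjectProperty.IsTriangulated (fun K : D => CohDer.IsCompactObject K) := by
  have : (fun K : D => CohDer.IsCompactObject K) = fun K : D => HasFiniteSupport K :=
    funext fun K => propext (isCompactObject_iff_hasFiniteSupport K)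
  rw [this]
  infer_instance

end GrothLib.TriCat
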