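import Groth.Agent.Lib.TriCat.Brown
import Groth.Agent.Lib.TriCat.Compact
import Mathlib.CategoryTheory.Adjunction.PartialAdjoint
import Mathlib.CategoryTheory.Preadditive.Yoneda.Limits
import Mathlib.CategoryTheory.Triangulated.Opposite.Functor
import Mathlib.CategoryTheory.Triangulated.Yoneda
import Mathlib.CategoryTheory.Limits.Preserves.Opposites

/-! # Consequences of Brown representability -/

universe v u u'

open CategoryTheory CategoryTheory.Limits CategoryTheory.Pretriangulated Opposite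
open CategoryTheory.Pretriangulated.Opposite

namespace GrothLib.TriCat

variable {D : Type u} [Category.{v} D] [Preadditive D] [HasShift D ℤ]
  [∀ n : ℤ, (shiftFunctor D n).Additive] {ι : Type v}

/-- The family of all shifts of the members of `E`. -/
def shiftFam (E : ι → D) : ι × ℤ → D := fun p => (E p.1)⟦p.2⟧

omit [Preadditive D] [∀ n : ℤ, (shiftFunctor D n).Additive] in
theorem isShiftClosed_shiftFam (E : ι → D) : IsShiftClosedFamily (shiftFam E) := fun k m =>
  ⟨(k.1, k.2 + m), ⟨((shiftFunctorAdd D k.2 m).app (E k.1)).symm⟩⟩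

/-- If only zero maps leave the shifts of `A` to `X`, then only zero maps go from `A` to the
shifts of `X`. -/
theorem eq_zero_of_forall_shift {A X : D} (h : ∀ (m : ℤ) (g : A⟦m⟧ ⟶ X), g = 0) (n : ℤ)
    (f : A ⟶ X⟦n⟧) : f = 0 := by
  have := h (-n) (f⟦-n⟧' ≫ (shiftFunctorCompIsoId D n (-n) (by omega)).hom.app X)
  rw [← zero_comp (f := (shiftFunctorCompIsoId D n (-n) (by omega)).hom.app X), cancel_mono] at this
  exact (shiftFunctor D (-n)).map_injective (by rw [this, Functor.map_zero])

omit [Preadditive D] [∀ n : ℤ, (shiftFunctor D n).Additive] in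
/-- The shifts of a perfect family form a perfect family, if lifts exist against shifts of the
test morphisms. -/
theorem isPerfectFamily_shiftFam [HasColimitsOfShape (Discrete ℕ) D] (E : ι → D)
    (h2 : ∀ (X : ℕ → D) (i : ι) (α : E i ⟶ ∐ X), ∃ (j : ℕ → ι) (β : ∀ n, E (j n) ⟶ X n)
      (γ : E i ⟶ ∐ (fun n => E (j n))), α = γ ≫ Limits.Sigma.map β) :
    IsPerfectFamily (shiftFam E) := by
  rintro A B φ hφ ⟨i, m⟩ b
  let adj := (shiftEquiv D m).toAdjunction
  let R := (shiftEquiv D m).inverse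
  let b' : E i ⟶ R.obj (∐ B) := adj.homEquiv (E i) (∐ B) b
  obtain ⟨j, β, γ, hβ⟩ := h2 _ i (b' ≫ inv (sigmaComparison R B))
  have hlift : ∀ n, ∃ a : (shiftEquiv D m).functor.obj (E (j n)) ⟶ A n,
      a ≫ φ n = (adj.homEquiv _ _).symm (β n) := fun n => hφ n (j n, m) _
  choose a ha using hlift
  refine ⟨(adj.homEquiv _ _).symm
    (γ ≫ Sigma.desc fun n => adj.homEquiv _ _ (a n) ≫ R.map (Sigma.ι A n)), ?_⟩
  refine (adj.homEquiv (E i) (∐ B)).injective ?_
  refine (adj.homEquiv_naturality_right (X := E i) _ _).trans ?_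
  erw [Equiv.apply_symm_apply]
  rw [Category.assoc]
  have : (Sigma.desc fun n => adj.homEquiv _ _ (a n) ≫ R.map (Sigma.ι A n)) ≫
      R.map (Limits.Sigma.map φ) = Limits.Sigma.map β ≫ sigmaComparison R B := by
    refine Sigma.hom_ext _ _ fun n => ?_
    rw [Sigma.ι_desc_assoc, Category.assoc, ← Functor.map_comp, Sigma.ι_map, Functor.map_comp,
      ← Category.assoc, ← adj.homEquiv_naturality_right, ha, Equiv.apply_symm_apply,
      Sigma.ι_map_assoc, ι_comp_sigmaComparison]
  rw [this, ← Category.assoc, ← hβ, Category.assoc, IsIso.inv_hom_id, Category.comp_id]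

theorem hasColimitsOfShape_nat [HasCoproducts.{v} D] : HasColimitsOfShape (Discrete ℕ) D :=
  hasColimitsOfShape_of_equivalence (Discrete.equivalence Equiv.ulift.{v, 0})

/-- A family of compact objects is perfect. -/
theorem isPerfectFamily_of_hasFiniteSupport [HasCoproducts.{v} D]
    [HasColimitsOfShape (Discrete ℕ) D] (E : ι → D) (hc : ∀ k, HasFiniteSupport (E k)) :
    IsPerfectFamily E := by
  intro A B φ hφ k b
  let B' : ULift.{v} ℕ → D := fun n => B n.down
  let e : (∐ B) ⟶ ∐ B' := Sigma.desc fun n => Sigma.ι B' ⟨n⟩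
  let e' : (∐ B') ⟶ ∐ B := Sigma.desc fun n => Sigma.ι B n.down
  have he : e ≫ e' = 𝟙 _ := by
    refine Sigma.hom_ext _ _ fun n => ?_
    simp [e, e', B']
  obtain ⟨s, hs⟩ := hc k _ B' (b ≫ e)
  choose a ha using fun j : ULift.{v} ℕ => hφ j.down k (b ≫ e ≫ Sigma.π B' j)
  refine ⟨∑ j ∈ s, a j ≫ Sigma.ι A j.down, ?_⟩
  have : b = ((b ≫ e) ≫ supp B' s) ≫ e' := by
    rw [hs, Category.assoc, he, Category.comp_id]
  conv_rhs => rw [this, supp_eq_sum]
  rw [Preadditive.sum_comp, Preadditive.comp_sum, Preadditive.sum_comp]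
  refine Finset.sum_congr rfl fun j _ => ?_
  rw [Category.assoc, Sigma.ι_map, ← Category.assoc, ha]
  simp [e', B']
  congr!

variable [HasZeroObject D] [Pretriangulated D] [HasCoproducts.{v} D]

/-- A compactly generated category is perfectly generated by a shift closed family. -/
theorem exists_perfect_of_compactlyGenerated [HasColimitsOfShape (Discrete ℕ) D]
    (hD : CohDer.IsCompactlyGenerated D) :
    ∃ (κ : Type v) (G : κ → D), IsShiftClosedFamily G ∧ IsPerfectFamily G ∧
      ∀ X : D, (∀ k (f : G k ⟶ X), f = 0) → IsZero X := by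
  obtain ⟨κ, E, hc, hg⟩ := hD
  exact ⟨κ × ℤ, shiftFam E, isShiftClosed_shiftFam E, isPerfectFamily_of_hasFiniteSupport _
    fun k => hasFiniteSupport_shift ((isCompactObject_iff_hasFiniteSupport _).1 (hc k.1)) k.2,
    fun X hX => hg X fun i n f => eq_zero_of_forall_shift (fun m g => hX (i, m) g) n f⟩

/-- The family of shifts of a family as in Krause's conditions. -/
theorem exists_perfect_of_conditions [HasColimitsOfShape (Discrete ℕ) D] (E : ι → D)
    (h1 : ∀ X : D, ¬ IsZero X → ∃ (i : ι) (f : E i ⟶ X), f ≠ 0)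
    (h2 : ∀ (X : ℕ → D) (i : ι) (α : E i ⟶ ∐ X), ∃ (j : ℕ → ι) (β : ∀ n, E (j n) ⟶ X n)
      (γ : E i ⟶ ∐ (fun n => E (j n))), α = γ ≫ Limits.Sigma.map β) :
    ∃ (κ : Type v) (G : κ → D), IsShiftClosedFamily G ∧ IsPerfectFamily G ∧
      ∀ X : D, (∀ k (f : G k ⟶ X), f = 0) → IsZero X := by
  refine ⟨ι × ℤ, shiftFam E, isShiftClosed_shiftFam E, isPerfectFamily_shiftFam E h2,
    fun X hX => ?_⟩
  by_contra hne
  obtain ⟨i, f, hf⟩ := h1 X hne
  exact hf (by
    have := hX (i, 0) ((shiftFunctorZero D ℤ).hom.app (E i) ≫ f)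
    rw [← cancel_epi ((shiftFunctorZero D ℤ).hom.app (E i)), comp_zero]
    exact this)

/-- A coproduct preserving triangulated functor out of a perfectly generated category is a left
adjoint. -/
theorem isLeftAdjoint_of_perfect [HasColimitsOfShape (Discrete ℕ) D] {E : ι → D}
    (hs : IsShiftClosedFamily E) (hperf : IsPerfectFamily E)
    (h1 : ∀ X : D, (∀ k (f : E k ⟶ X), f = 0) → IsZero X)
    {D' : Type u'} [Category.{v} D'] [Preadditive D'] [HasZeroObject D'] [HasShift D' ℤ]
    [∀ n : ℤ, (shiftFunctor D' n).Additive] [Pretriangulated D']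
    (F : D ⥤ D') [F.CommShift ℤ] [F.IsTriangulated]
    [∀ (κ : Type v), PreservesColimitsOfShape (Discrete κ) F] : F.IsLeftAdjoint := by
  refine F.isLeftAdjoint_of_rightAdjointObjIsDefined_eq_top (funext fun Y => ?_)
  simp only [Pi.top_apply, Prop.top_eq_true, eq_iff_iff, iff_true]
  rw [F.rightAdjointObjIsDefined_iff]
  have : ∀ (κ : Type v), PreservesLimitsOfShape (Discrete κ) F.op := fun κ => by
    have : PreservesColimitsOfShape (Discrete κ)ᵒᵖ F :=
      preservesColimitsOfShape_of_equiv (Discrete.opposite κ).symm F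
    exact preservesLimitsOfShape_op _ F
  exact isRepresentable_of_perfect (H := F.op ⋙ preadditiveYoneda.obj Y) hs hperf h1

end GrothLib.TriCat
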