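import Groth.Prelude.Def_PerfAux
import Mathlib.CategoryTheory.Triangulated.Pretriangulated

/-! # Maps into a fixed direct sum that are finite sums of maps into the summands -/

set_option autoImplicit false

universe w v u

open CategoryTheory CategoryTheory.Limits CategoryTheory.Pretriangulated

namespace GrothLib.TriCat

attribute [local instance] Classical.decEq

variable {D : Type u} [Category.{v} D] [Preadditive D] {ι : Type w} (X : ι → D) [HasCoproduct X]

/-- Every map from `P` into `∐ X` is a finite sum of maps into the summands. -/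
def FinHom (P : D) : Prop :=
  Function.Surjective (PerfAux.homSumToHomCoprod P X)

theorem homSum_of [DecidableEq ι] (P : D) (i : ι) (x : P ⟶ X i) :
    PerfAux.homSumToHomCoprod P X (DirectSum.of (fun i => P ⟶ X i) i x) = x ≫ Sigma.ι X i := by
  obtain rfl : ‹DecidableEq ι› = Classical.decEq ι := Subsingleton.elim _ _
  exact DirectSum.toAddMonoid_of _ _ _

theorem ι_mem_range (P : D) (i : ι) (x : P ⟶ X i) :
    x ≫ Sigma.ι X i ∈ (PerfAux.homSumToHomCoprod P X).range := by
  classical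
  exact ⟨_, homSum_of X P i x⟩

theorem comp_mem_range {P P' : D} (f : P ⟶ P') (d : DirectSum ι (fun i => P' ⟶ X i)) :
    f ≫ PerfAux.homSumToHomCoprod P' X d ∈ (PerfAux.homSumToHomCoprod P X).range := by
  classical
  induction d using DirectSum.induction_on with
  | zero => rw [map_zero, comp_zero]; exact zero_mem _
  | of i x => rw [homSum_of, ← Category.assoc]; exact ι_mem_range X P i _
  | add a b ha hb => rw [map_add, Preadditive.comp_add]; exact add_mem ha hb

theorem homSum_π (P : D) (d : DirectSum ι (fun i => P ⟶ X i)) (k : ι) :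
    PerfAux.homSumToHomCoprod P X d ≫ Sigma.π X k = d k := by
  classical
  induction d using DirectSum.induction_on with
  | zero => simp
  | of i x =>
    rw [homSum_of, Category.assoc]
    by_cases h : i = k
    · subst h; rw [Sigma.ι_π_eq_id, Category.comp_id, DirectSum.of_eq_same]
    · rw [Sigma.ι_π_of_ne X h, comp_zero, DirectSum.of_eq_of_ne _ _ _ (Ne.symm h)]
  | add a b ha hb => rw [map_add, Preadditive.add_comp, ha, hb, DirectSum.add_apply]

variable {X}

theorem FinHom.bijective {P : D} (h : FinHom X P) : Function.Bijective (PerfAux.homSumToHomCoprod P X) :=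
  ⟨fun a b hab => DFinsupp.ext fun k =>
    (homSum_π X P a k).symm.trans ((congrArg (· ≫ Sigma.π X k) hab).trans (homSum_π X P b k)), h⟩

theorem FinHom.of_isZero {P : D} (h : IsZero P) : FinHom X P :=
  fun φ => ⟨0, h.eq_of_src _ _⟩

theorem FinHom.of_retract {P Q : D} (i : Q ⟶ P) (p : P ⟶ Q) (h : i ≫ p = 𝟙 Q) (hP : FinHom X P) :
    FinHom X Q := fun φ => by
  obtain ⟨d, hd⟩ := hP (p ≫ φ)
  have : φ = i ≫ PerfAux.homSumToHomCoprod P X d := by rw [hd, ← Category.assoc, h, Category.id_comp]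
  rw [this]
  exact comp_mem_range X i d

theorem FinHom.of_iso {P Q : D} (e : P ≅ Q) (hP : FinHom X P) : FinHom X Q :=
  hP.of_retract e.inv e.hom e.inv_hom_id

theorem FinHom.of_total {A B P : D} (i₁ : A ⟶ P) (p₁ : P ⟶ A) (i₂ : B ⟶ P) (p₂ : P ⟶ B)
    (h : p₁ ≫ i₁ + p₂ ≫ i₂ = 𝟙 P) (hA : FinHom X A) (hB : FinHom X B) : FinHom X P := fun φ => by
  obtain ⟨a, ha⟩ := hA (i₁ ≫ φ)
  obtain ⟨b, hb⟩ := hB (i₂ ≫ φ)
  have : φ = p₁ ≫ PerfAux.homSumToHomCoprod A X a + p₂ ≫ PerfAux.homSumToHomCoprod B X b := by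
    rw [ha, hb, ← Category.assoc, ← Category.assoc, ← Preadditive.add_comp, h, Category.id_comp]
  rw [this]
  exact add_mem (comp_mem_range X p₁ a) (comp_mem_range X p₂ b)

variable [HasZeroObject D] [HasShift D ℤ] [∀ n : ℤ, (shiftFunctor D n).Additive] [Pretriangulated D]

theorem FinHom.ext₃ {T : Triangle D} (hT : T ∈ distTriang D) (h₂ : FinHom X T.obj₂)
    (h₁ : FinHom X (T.obj₁⟦(1 : ℤ)⟧)) : FinHom X T.obj₃ := by
  classical
  intro φ
  obtain ⟨b, hb⟩ := h₂ (T.mor₂ ≫ φ)
  have hc : ∀ i, ∃ c : T.obj₃ ⟶ X i, b i = T.mor₂ ≫ c := fun i => by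
    refine Triangle.yoneda_exact₂ T hT (b i) ?_
    rw [← homSum_π, hb, ← Category.assoc, ← Category.assoc, comp_distTriang_mor_zero₁₂ T hT,
      zero_comp, zero_comp]
  choose c hc using hc
  let φ₁ : T.obj₃ ⟶ ∐ X := ∑ i ∈ b.support, c i ≫ Sigma.ι X i
  have h1 : T.mor₂ ≫ (φ - φ₁) = 0 := by
    rw [Preadditive.comp_sub, sub_eq_zero, ← hb]
    conv_lhs => rw [← DirectSum.sum_support_of b]
    rw [map_sum, Preadditive.comp_sum]
    refine Finset.sum_congr rfl fun i _ => ?_
    rw [homSum_of, hc i, Category.assoc]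
  obtain ⟨ψ, hψ⟩ := Triangle.yoneda_exact₃ T hT _ h1
  obtain ⟨a, rfl⟩ := h₁ ψ
  have : φ = φ₁ + T.mor₃ ≫ PerfAux.homSumToHomCoprod _ X a := by rw [← hψ]; abel
  rw [this]
  exact add_mem (sum_mem fun i _ => ι_mem_range X _ i _) (comp_mem_range X _ a)

end GrothLib.TriCat
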