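import Groth.Agent.Lib.TriCat.FinHom
import Mathlib.CategoryTheory.Triangulated.Functor
import Mathlib.CategoryTheory.Triangulated.TriangleShift

/-! # Predicates closed under shifts, cones and direct summands -/

set_option autoImplicit false

universe w v v' u u'

open CategoryTheory CategoryTheory.Limits CategoryTheory.Pretriangulated
open ZeroObject

namespace GrothLib.TriCat

variable {D : Type u} [Category.{v} D] [Preadditive D] [HasZeroObject D] [HasShift D ℤ]
  [∀ n : ℤ, (shiftFunctor D n).Additive] [Pretriangulated D]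

/-- `P` contains zero and is closed under shifts, cones and direct summands of sums. -/
structure Thick (P : D → Prop) : Prop where
  zero : ∀ {Z : D}, IsZero Z → P Z
  shift : ∀ {A : D} (n : ℤ), P A → P (A⟦n⟧)
  total : ∀ {A B C : D} (i₁ : A ⟶ C) (p₁ : C ⟶ A) (i₂ : B ⟶ C) (p₂ : C ⟶ B),
    p₁ ≫ i₁ + p₂ ≫ i₂ = 𝟙 C → P A → P B → P C
  cone : ∀ T ∈ distTriang D, P T.obj₁ → P T.obj₂ → P T.obj₃

namespace Thick

variable {P : D → Prop} (hP : Thick P)
include hP

theorem retract {A C : D} (i : C ⟶ A) (p : A ⟶ C) (h : i ≫ p = 𝟙 C) (hA : P A) : P C :=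
  hP.total (B := 0) p i 0 0 (by rw [h, comp_zero, add_zero]) hA (hP.zero (isZero_zero D))

theorem of_iso {A C : D} (e : A ≅ C) (hA : P A) : P C := hP.retract e.inv e.hom e.inv_hom_id hA

theorem ext₂ (T : Triangle D) (hT : T ∈ distTriang D) (h₁ : P T.obj₁) (h₃ : P T.obj₃) : P T.obj₂ :=
  hP.cone T.invRotate (inv_rot_of_distTriang _ hT) (hP.shift (-1) h₃) h₁

theorem ext₁ (T : Triangle D) (hT : T ∈ distTriang D) (h₂ : P T.obj₂) (h₃ : P T.obj₃) : P T.obj₁ :=
  hP.of_iso ((shiftEquiv D (1 : ℤ)).unitIso.app _).symm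
    (hP.shift (-1) (hP.cone T.rotate (rot_of_distTriang _ hT) h₂ h₃))

theorem biprod {A B : D} (hA : P A) (hB : P B) : P (A ⊞ B) :=
  hP.total biprod.inl biprod.fst biprod.inr biprod.snd biprod.total hA hB

omit hP in
/-- Inverse image under a triangulated functor. -/
theorem comap {D' : Type u'} [Category.{v'} D'] [Preadditive D'] [HasZeroObject D'] [HasShift D' ℤ]
    [∀ n : ℤ, (shiftFunctor D' n).Additive] [Pretriangulated D'] (F : D' ⥤ D) [F.CommShift ℤ]
    [F.IsTriangulated] {P : D → Prop} (hP : Thick P) : Thick (fun A => P (F.obj A)) where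
  zero h := hP.zero (F.map_isZero h)
  shift n hA := hP.of_iso ((F.commShiftIso n).app _).symm (hP.shift n hA)
  total i₁ p₁ i₂ p₂ h hA hB := hP.total (F.map i₁) (F.map p₁) (F.map i₂) (F.map p₂)
    (by rw [← F.map_comp, ← F.map_comp, ← F.map_add, h, F.map_id]) hA hB
  cone T hT h₁ h₂ := hP.cone (F.mapTriangle.obj T) (F.map_distinguished _ hT) h₁ h₂

end Thick

variable {ι : Type w} (X : ι → D) [HasCoproduct X]

/-- Objects all of whose shifts have finitely supported maps into `∐ X`. -/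
theorem thick_finHom : Thick (fun A : D => ∀ n : ℤ, FinHom X (A⟦n⟧)) where
  zero h n := FinHom.of_isZero ((shiftFunctor D n).map_isZero h)
  shift n hA m := FinHom.of_iso ((shiftFunctorAdd D n m).app _) (hA (n + m))
  total i₁ p₁ i₂ p₂ h hA hB n := FinHom.of_total (i₁⟦n⟧') (p₁⟦n⟧') (i₂⟦n⟧') (p₂⟦n⟧')
    (by rw [← Functor.map_comp, ← Functor.map_comp, ← Functor.map_add, h, CategoryTheory.Functor.map_id])
    (hA n) (hB n)
  cone T hT h₁ h₂ n :=
    FinHom.ext₃ (Triangle.shift_distinguished _ hT n) (h₂ n)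
      (FinHom.of_iso ((shiftFunctorAdd D n 1).app _) (h₁ (n + 1)))

end GrothLib.TriCat
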