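import Mathlib.CategoryTheory.Triangulated.Yoneda
import Mathlib.CategoryTheory.Limits.Preserves.Shapes.Products
import Mathlib.CategoryTheory.Limits.Shapes.Opposites.Products
import Mathlib.CategoryTheory.Limits.Preserves.Finite
import Mathlib.Algebra.Category.Grp.Limits

/-! # Elementwise use of cohomological functors `Dᵒᵖ ⥤ Ab` -/

universe w v' v u

open CategoryTheory CategoryTheory.Limits CategoryTheory.Pretriangulated Opposite
open CategoryTheory.Pretriangulated.Opposite

namespace GrothLib.TriCat

variable {D : Type u} [Category.{v} D] (H : Dᵒᵖ ⥤ AddCommGrpCat.{v'})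

/-- Restriction of a section of a presheaf of groups along a morphism. -/
noncomputable abbrev res {A B : D} (a : A ⟶ B) (x : H.obj (op B)) : H.obj (op A) :=
  (ConcreteCategory.hom (H.map a.op)) x

theorem res_comp {A B C : D} (a : A ⟶ B) (b : B ⟶ C) (x : H.obj (op C)) :
    res H (a ≫ b) x = res H a (res H b x) := by
  simp [res, op_comp, Functor.map_comp]

theorem res_id {A : D} (x : H.obj (op A)) : res H (𝟙 A) x = x := by
  simp [res, op_id, CategoryTheory.Functor.map_id]

theorem res_map_sub {A B : D} (a : A ⟶ B) (x y : H.obj (op B)) :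
    res H a (x - y) = res H a x - res H a y :=
  map_sub (ConcreteCategory.hom (H.map a.op)) x y

theorem res_map_zero {A B : D} (a : A ⟶ B) : res H a (0 : H.obj (op B)) = 0 :=
  map_zero (ConcreteCategory.hom (H.map a.op))

section Products

variable {J : Type w} (X : J → D) [HasCoproduct X] [PreservesLimitsOfShape (Discrete J) H]

theorem isLimit_res_coprod :
    Nonempty (IsLimit (Fan.mk ((H ⋙ forget AddCommGrpCat.{v'}).obj (op (∐ X)))
      (fun j => (H ⋙ forget AddCommGrpCat.{v'}).map (Sigma.ι X j).op))) := by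
  have hl : IsLimit (Fan.mk (op (∐ X)) (fun j => (Sigma.ι X j).op)) :=
    Cofan.IsColimit.op (coproductIsCoproduct X)
  have h1 := isLimitFanMkObjOfIsLimit H _ _ hl
  exact ⟨isLimitFanMkObjOfIsLimit (forget AddCommGrpCat.{v'}) _ _ h1⟩

theorem exists_res_ι (x : ∀ j, H.obj (op (X j))) :
    ∃ y : H.obj (op (∐ X)), ∀ j, res H (Sigma.ι X j) y = x j := by
  obtain ⟨hl⟩ := isLimit_res_coprod H X
  let g : ∀ j, PUnit.{v' + 1} ⟶ (H ⋙ forget AddCommGrpCat.{v'}).obj (op (X j)) :=
    fun j => TypeCat.ofHom fun _ => x j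
  refine ⟨Fan.IsLimit.lift hl g PUnit.unit, fun j => ?_⟩
  exact types_comp_apply _ _ _ |>.symm.trans
    (ConcreteCategory.congr_hom (Fan.IsLimit.fac hl g j) PUnit.unit)

theorem res_ι_ext {a b : H.obj (op (∐ X))}
    (h : ∀ j, res H (Sigma.ι X j) a = res H (Sigma.ι X j) b) : a = b := by
  obtain ⟨hl⟩ := isLimit_res_coprod H X
  have : (TypeCat.ofHom fun _ : PUnit.{v' + 1} => a) = TypeCat.ofHom fun _ => b :=
    Fan.IsLimit.hom_ext hl _ _ fun j => by ext; exact h j
  exact ConcreteCategory.congr_hom this PUnit.unit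

end Products

variable [Preadditive D] [HasZeroObject D] [HasShift D ℤ]
  [∀ n : ℤ, (shiftFunctor D n).Additive] [Pretriangulated D] [H.IsHomological]

theorem res_zero {A B : D} (x : H.obj (op B)) : res H (0 : A ⟶ B) x = 0 := by
  simp [res]

theorem res_sub {A B : D} (a b : A ⟶ B) (x : H.obj (op B)) :
    res H (a - b) x = res H a x - res H b x := by
  simp [res, op_sub, Functor.map_sub]

theorem res_add {A B : D} (a b : A ⟶ B) (x : H.obj (op B)) :
    res H (a + b) x = res H a x + res H b x := by
  simp [res, op_add, Functor.map_add]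

theorem exists_res_eq_of_distTriang (T : Triangle D) (hT : T ∈ distTriang D)
    (y : H.obj (op T.obj₂)) (hy : res H T.mor₁ y = 0) :
    ∃ z : H.obj (op T.obj₃), res H T.mor₂ z = y :=
  (ShortComplex.ab_exact_iff _).1 (H.map_distinguished_op_exact T hT) y hy

end GrothLib.TriCat
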