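import Groth.Prelude.Def_DerLim
import Groth.Agent.Lib.TriCat.Cohomological
import Mathlib.CategoryTheory.Limits.Shapes.ZeroMorphisms

/-! # Telescopes and homotopy colimits -/

universe w v u

open CategoryTheory CategoryTheory.Limits CategoryTheory.Pretriangulated Opposite
open CategoryTheory.Pretriangulated.Opposite

namespace GrothLib.TriCat

variable {D : Type u} [Category.{v} D]

theorem ι_shiftMap (K : ℕ → D) (f : ∀ n, K n ⟶ K (n + 1)) [HasCoproduct K] (n : ℕ) :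
    Sigma.ι K n ≫ DerLim.shiftMap K f = f n ≫ Sigma.ι K (n + 1) := by
  simp [DerLim.shiftMap]

/-- The codiagonal telescope of a constant system is split: `1 - shift` has a retraction. -/
theorem exists_retraction_one_sub_shiftMap_const [Preadditive D] (Y : D)
    [HasCoproduct (fun _ : ℕ => Y)] :
    ∃ r, (𝟙 _ - DerLim.shiftMap (fun _ : ℕ => Y) (fun _ => 𝟙 Y)) ≫ r = 𝟙 _ := by
  refine ⟨Sigma.desc fun n => -∑ k ∈ Finset.range n, Sigma.ι (fun _ : ℕ => Y) k, ?_⟩
  refine Sigma.hom_ext _ _ fun n => ?_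
  rw [Preadditive.sub_comp, Category.id_comp, Preadditive.comp_sub, Category.comp_id,
    ← Category.assoc, ι_shiftMap]
  simp [Finset.sum_range_succ]

variable [Preadditive D] [HasZeroObject D] [HasShift D ℤ] [∀ n : ℤ, (shiftFunctor D n).Additive]
  [Pretriangulated D]

theorem exists_isHocolim (K : ℕ → D) (f : ∀ n, K n ⟶ K (n + 1)) [HasCoproduct K] :
    ∃ (L : D) (i : ∀ n, K n ⟶ L), DerLim.IsHocolim K f L i := by
  obtain ⟨L, g, c, hT⟩ := distinguished_cocone_triangle (𝟙 (∐ K) - DerLim.shiftMap K f)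
  refine ⟨L, fun n => Sigma.ι K n ≫ g, c, ?_⟩
  have : Sigma.desc (fun n => Sigma.ι K n ≫ g) = g := Sigma.hom_ext _ _ fun n => by simp
  rwa [this]

theorem isHocolim_comp {K : ℕ → D} {f : ∀ n, K n ⟶ K (n + 1)} [HasCoproduct K] {L : D}
    {i : ∀ n, K n ⟶ L} (h : DerLim.IsHocolim K f L i) (n : ℕ) : f n ≫ i (n + 1) = i n := by
  obtain ⟨c, hT⟩ := h
  have h0 : (𝟙 (∐ K) - DerLim.shiftMap K f) ≫ Sigma.desc i = 0 :=
    comp_distTriang_mor_zero₁₂ _ hT
  have e := congrArg (fun x => Sigma.ι K n ≫ x) h0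
  simp only [Preadditive.sub_comp, Category.id_comp, Preadditive.comp_sub, Sigma.ι_desc, comp_zero,
    ← Category.assoc, ι_shiftMap] at e
  rw [Category.assoc, Sigma.ι_desc, sub_eq_zero] at e
  exact e.symm

theorem isHocolim_of_iso {K : ℕ → D} {f : ∀ n, K n ⟶ K (n + 1)} [HasCoproduct K] {L L' : D}
    {i : ∀ n, K n ⟶ L} (h : DerLim.IsHocolim K f L i) (e : L ≅ L') :
    DerLim.IsHocolim K f L' (fun n => i n ≫ e.hom) := by
  obtain ⟨c, hT⟩ := h
  refine ⟨e.inv ≫ c, isomorphic_distinguished _ hT _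
    (Triangle.isoMk _ _ (Iso.refl _) (Iso.refl _) e.symm
      ((Category.comp_id _).trans (Category.id_comp _).symm) ?_ ?_)⟩
  · change Sigma.desc (fun n => i n ≫ e.hom) ≫ e.inv = 𝟙 _ ≫ Sigma.desc i
    refine Sigma.hom_ext _ _ fun n => ?_
    simp
  · change (e.inv ≫ c) ≫ (shiftFunctor D (1 : ℤ)).map (𝟙 _) = e.inv ≫ c
    rw [CategoryTheory.Functor.map_id, Category.comp_id]

/-- A compatible family of sections extends to the homotopy colimit. -/
theorem exists_res_hocolim {A : Dᵒᵖ ⥤ AddCommGrpCat.{v}} [A.IsHomological]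
    {K : ℕ → D} {f : ∀ n, K n ⟶ K (n + 1)} [HasCoproduct K]
    [PreservesLimitsOfShape (Discrete ℕ) A] {L : D} {i : ∀ n, K n ⟶ L}
    (h : DerLim.IsHocolim K f L i) (x : ∀ n, A.obj (op (K n)))
    (hx : ∀ n, res A (f n) (x (n + 1)) = x n) :
    ∃ z : A.obj (op L), ∀ n, res A (i n) z = x n := by
  obtain ⟨c, hT⟩ := h
  obtain ⟨y, hy⟩ := exists_res_ι A K x
  obtain ⟨z, hz⟩ := exists_res_eq_of_distTriang A _ hT y (res_ι_ext A K fun n => by
    change res A (Sigma.ι K n) (res A (𝟙 _ - DerLim.shiftMap K f) y) = res A (Sigma.ι K n) 0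
    rw [res_sub, res_id, res_map_sub, res_map_zero, ← res_comp, ι_shiftMap, res_comp, hy, hy, hx,
      sub_self])
  change res A (Sigma.desc i) z = y at hz
  exact ⟨z, fun n => by rw [← hy n, ← hz, ← res_comp, Sigma.ι_desc]⟩

end GrothLib.TriCat
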