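import Groth.Prelude.Def_W4c3perfectstacksMV
import Groth.Agent.Lib.TriCat.Compact
import Mathlib.CategoryTheory.Triangulated.Adjunction
import Mathlib.CategoryTheory.Triangulated.Yoneda

/-!
# Mayer–Vietoris squares of triangulated categories
-/

set_option autoImplicit false
set_option maxHeartbeats 1000000
universe v u

open CategoryTheory CategoryTheory.Limits CategoryTheory.Pretriangulated

namespace GrothLib.MV

section General

variable {C : Type u} [Category.{v} C] [Preadditive C] [HasZeroObject C] [HasShift C ℤ]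
  [∀ n : ℤ, (shiftFunctor C n).Additive] [Pretriangulated C]

/-- If the second component of the second map is invertible, so is the first component of the first. -/
theorem isIso_fst_of_isIso_inr {P X Y Z : C} (a : P ⟶ X ⊞ Y) (b : X ⊞ Y ⟶ Z) (c : Z ⟶ P⟦(1 : ℤ)⟧)
    (hT : Triangle.mk a b c ∈ distTriang C) [IsIso (biprod.inr ≫ b)] : IsIso (a ≫ biprod.fst) := by
  refine isIso_of_yoneda_map_bijective _ fun W => ⟨fun p q hpq => ?_, fun x => ?_⟩
  · refine sub_eq_zero.1 ?_
    have h1 : (p - q) ≫ a ≫ biprod.fst = 0 := by rw [Preadditive.sub_comp]; exact sub_eq_zero.2 hpq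
    have h2 : ((p - q) ≫ a) = 0 := by
      refine biprod.hom_ext _ _ (by rw [Category.assoc, h1, zero_comp]) ?_
      have h3 : ((p - q) ≫ a) ≫ b = 0 := by
        rw [Category.assoc, show a ≫ b = 0 from comp_distTriang_mor_zero₁₂ _ hT, comp_zero]
      have h4 : (p - q) ≫ a = (((p - q) ≫ a) ≫ biprod.snd) ≫ biprod.inr := by
        refine biprod.hom_ext _ _ ?_ ?_
        · simpa using h1
        · simp
      rw [h4, Category.assoc] at h3
      rw [zero_comp, ← cancel_mono (biprod.inr ≫ b), zero_comp]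
      exact h3
    obtain ⟨w, hw⟩ : ∃ w : W⟦(1 : ℤ)⟧ ⟶ Z, (p - q)⟦(1 : ℤ)⟧' = w ≫ c :=
      Triangle.coyoneda_exact₁ _ hT _ (by
        change (p - q)⟦(1 : ℤ)⟧' ≫ a⟦(1 : ℤ)⟧' = 0
        rw [← Functor.map_comp, h2, Functor.map_zero])
    refine (shiftFunctor C (1 : ℤ)).map_injective ?_
    rw [Functor.map_zero, hw, show c = inv (biprod.inr ≫ b) ≫ biprod.inr ≫ b ≫ c by simp,
      show b ≫ c = 0 from comp_distTriang_mor_zero₂₃ _ hT, comp_zero, comp_zero, comp_zero]
  · obtain ⟨p, hp⟩ : ∃ p : W ⟶ P, biprod.lift x (-(x ≫ biprod.inl ≫ b) ≫ inv (biprod.inr ≫ b)) = p ≫ a :=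
      Triangle.coyoneda_exact₂ _ hT _ (by
        change biprod.lift x _ ≫ b = 0
        simp [biprod.lift_eq, Preadditive.add_comp])
    refine ⟨p, ?_⟩
    change p ≫ a ≫ biprod.fst = x
    rw [← Category.assoc, ← hp, biprod.lift_fst]

/-- The split square: `P` recovers `X` from `W ⊞ X' ⟶ W'` when `W` splits off `W'`. -/
theorem isIso_snd_of_split {T T' : Triangle C} (hT : T ∈ distTriang C) (hT' : T' ∈ distTriang C)
    (e : T' ⟶ T) [IsIso e.hom₁] (σ : T.obj₃ ⟶ T'.obj₃) (hσ : σ ≫ e.hom₃ = 𝟙 _)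
    {P : C} (a : P ⟶ T.obj₃ ⊞ T'.obj₂) (c : T'.obj₃ ⟶ P⟦(1 : ℤ)⟧)
    (hP : Triangle.mk a (biprod.desc σ (-T'.mor₂)) c ∈ distTriang C) :
    IsIso (a ≫ biprod.snd ≫ e.hom₂) := by
  have hδ : T'.mor₃ ≫ e.hom₁⟦(1 : ℤ)⟧' = e.hom₃ ≫ T.mor₃ := e.comm₃
  refine isIso_of_yoneda_map_bijective _ fun W => ⟨fun p q hpq => ?_, fun y => ?_⟩
  · refine sub_eq_zero.1 ?_
    let x := (p - q) ≫ a ≫ biprod.fst
    let s := (p - q) ≫ a ≫ biprod.snd
    have hs : s ≫ e.hom₂ = 0 := by
      simp only [s, Category.assoc, Preadditive.sub_comp]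
      exact sub_eq_zero.2 hpq
    have hxs : x ≫ σ = s ≫ T'.mor₂ := by
      have : ((p - q) ≫ a) ≫ biprod.desc σ (-T'.mor₂) = 0 := by
        rw [Category.assoc, show a ≫ biprod.desc σ (-T'.mor₂) = 0 from comp_distTriang_mor_zero₁₂ _ hP, comp_zero]
      rw [biprod.desc_eq, Preadditive.comp_add, Preadditive.comp_neg, Preadditive.comp_neg, add_neg_eq_zero] at this
      simpa [x, s] using this
    have hx : x = 0 := by
      rw [← Category.comp_id x, ← hσ, ← Category.assoc, hxs, Category.assoc, e.comm₂, ← Category.assoc, hs, zero_comp]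
    obtain ⟨g, hg⟩ : ∃ g : W ⟶ T'.obj₁, s = g ≫ T'.mor₁ := Triangle.coyoneda_exact₂ _ hT' s (by
      rw [← hxs, hx, zero_comp])
    obtain ⟨w, hw⟩ : ∃ w : W⟦(1 : ℤ)⟧ ⟶ T.obj₃, (g ≫ e.hom₁)⟦(1 : ℤ)⟧' = w ≫ T.mor₃ :=
      Triangle.coyoneda_exact₁ _ hT _ (by
        rw [← Functor.map_comp, Category.assoc, ← e.comm₁, ← Category.assoc, ← hg, hs, Functor.map_zero])
    have hs0 : s = 0 := by
      refine (shiftFunctor C (1 : ℤ)).map_injective ?_
      have h1 : g⟦(1 : ℤ)⟧' = w ≫ σ ≫ T'.mor₃ := by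
        rw [← cancel_mono (e.hom₁⟦(1 : ℤ)⟧'), ← Functor.map_comp, hw, Category.assoc, Category.assoc, hδ,
          ← Category.assoc σ, hσ, Category.id_comp]
      rw [hg, Functor.map_comp, h1, Category.assoc, Category.assoc, comp_distTriang_mor_zero₃₁ _ hT', comp_zero,
        comp_zero, Functor.map_zero]
    have hpa : (p - q) ≫ a = 0 := biprod.hom_ext _ _ (by rw [Category.assoc, zero_comp]; exact hx)
      (by rw [Category.assoc, zero_comp]; exact hs0)
    obtain ⟨z, hz⟩ : ∃ z : W⟦(1 : ℤ)⟧ ⟶ T'.obj₃, (p - q)⟦(1 : ℤ)⟧' = z ≫ c :=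
      Triangle.coyoneda_exact₁ _ hP _ (by
        change (p - q)⟦(1 : ℤ)⟧' ≫ a⟦(1 : ℤ)⟧' = 0
        rw [← Functor.map_comp, hpa, Functor.map_zero])
    obtain ⟨t, ht⟩ : ∃ t, z - (z ≫ e.hom₃) ≫ σ = t ≫ T'.mor₂ := Triangle.coyoneda_exact₃ _ hT' _ (by
      rw [← cancel_mono (e.hom₁⟦(1 : ℤ)⟧'), zero_comp, Category.assoc, hδ, ← Category.assoc, Preadditive.sub_comp,
        Category.assoc (z ≫ e.hom₃), hσ, Category.comp_id, sub_self, zero_comp])
    refine (shiftFunctor C (1 : ℤ)).map_injective ?_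
    rw [Functor.map_zero, hz, show z = biprod.lift (z ≫ e.hom₃) (-t) ≫ biprod.desc σ (-T'.mor₂) by
      rw [biprod.lift_desc, Preadditive.neg_comp_neg, ← ht, add_sub_cancel], Category.assoc,
      show biprod.desc σ (-T'.mor₂) ≫ c = 0 from comp_distTriang_mor_zero₂₃ _ hP, comp_zero]
  · let x := y ≫ T.mor₂
    obtain ⟨s, hs⟩ : ∃ s, x ≫ σ = s ≫ T'.mor₂ := Triangle.coyoneda_exact₃ _ hT' _ (by
      rw [← cancel_mono (e.hom₁⟦(1 : ℤ)⟧'), zero_comp, Category.assoc, Category.assoc, hδ, ← Category.assoc σ, hσ,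
        Category.id_comp, Category.assoc, comp_distTriang_mor_zero₂₃ _ hT, comp_zero])
    obtain ⟨g, hg⟩ : ∃ g, y - s ≫ e.hom₂ = g ≫ T.mor₁ := Triangle.coyoneda_exact₂ _ hT _ (by
      rw [Preadditive.sub_comp, Category.assoc, ← e.comm₂, ← Category.assoc, ← hs, Category.assoc, hσ,
        Category.comp_id, sub_self])
    let s' := s + (g ≫ inv e.hom₁) ≫ T'.mor₁
    obtain ⟨p, hp⟩ : ∃ p : W ⟶ P, biprod.lift x s' = p ≫ a := Triangle.coyoneda_exact₂ _ hP _ (by
      change biprod.lift x s' ≫ biprod.desc σ (-T'.mor₂) = 0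
      rw [biprod.lift_desc, Preadditive.comp_neg, ← sub_eq_add_neg, sub_eq_zero, hs, Preadditive.add_comp,
        Category.assoc _ T'.mor₁, comp_distTriang_mor_zero₁₂ _ hT', comp_zero, add_zero])
    refine ⟨p, ?_⟩
    change p ≫ a ≫ biprod.snd ≫ e.hom₂ = y
    rw [← Category.assoc, ← hp, biprod.lift_snd_assoc, Preadditive.add_comp, Category.assoc _ T'.mor₁, e.comm₁,
      ← Category.assoc, Category.assoc g, IsIso.inv_hom_id, Category.comp_id, ← hg, add_sub_cancel]

omit [Preadditive C] [HasZeroObject C] [HasShift C ℤ] [∀ n : ℤ, (shiftFunctor C n).Additive] [Pretriangulated C] in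
theorem isIso_left_of_fac {X Y Z : C} {f : X ⟶ Y} {g : Y ⟶ Z} {h : X ⟶ Z} (w : f ≫ g = h) (hh : IsIso h)
    [IsIso g] : IsIso f := by
  subst w
  exact IsIso.of_isIso_comp_right f g

theorem isIso_of_cone {X Y : C} (φ : X ⟶ Y) (h : ∀ Z (p : Y ⟶ Z) (d : Z ⟶ X⟦(1 : ℤ)⟧),
    Triangle.mk φ p d ∈ distTriang C → IsZero Z) : IsIso φ := by
  obtain ⟨Z, p, d, hT⟩ := distinguished_cocone_triangle φ
  exact (Triangle.isZero₃_iff_isIso₁ _ hT).1 (h Z p d hT)

theorem map_distinguished_biprod {D : Type*} [Category D] [Preadditive D] [HasZeroObject D] [HasShift D ℤ]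
    [∀ n : ℤ, (shiftFunctor D n).Additive] [Pretriangulated D] (G : C ⥤ D) [G.CommShift ℤ] [G.IsTriangulated]
    {P X Y Z : C} {a : P ⟶ X ⊞ Y} {b : X ⊞ Y ⟶ Z} {c : Z ⟶ P⟦(1 : ℤ)⟧} (hT : Triangle.mk a b c ∈ distTriang C)
    {X' : D} (eX : G.obj X ≅ X') :
    ∃ c', Triangle.mk (biprod.lift (G.map (a ≫ biprod.fst) ≫ eX.hom) (G.map (a ≫ biprod.snd)))
      (biprod.desc (eX.inv ≫ G.map (biprod.inl ≫ b)) (G.map (biprod.inr ≫ b))) c' ∈ distTriang D := by
  let e : G.obj (X ⊞ Y) ≅ X' ⊞ G.obj Y :=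
    { hom := biprod.lift (G.map biprod.fst ≫ eX.hom) (G.map biprod.snd)
      inv := biprod.desc (eX.inv ≫ G.map biprod.inl) (G.map biprod.inr)
      hom_inv_id := by
        rw [biprod.lift_desc, Category.assoc, Iso.hom_inv_id_assoc, ← G.map_comp, ← G.map_comp, ← G.map_add,
          biprod.total, CategoryTheory.Functor.map_id]
      inv_hom_id := by
        apply biprod.hom_ext' <;> apply biprod.hom_ext <;> simp [← G.map_comp_assoc, ← G.map_comp] }
  refine ⟨((G.mapTriangle).obj (Triangle.mk a b c)).mor₃, ?_⟩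
  refine isomorphic_distinguished _ (G.map_distinguished _ hT) _
    (Triangle.isoMk _ _ (Iso.refl _) e.symm (Iso.refl _) ?_ ?_ ?_)
  · change biprod.lift _ _ ≫ e.inv = 𝟙 _ ≫ G.map a
    rw [Category.id_comp, Iso.comp_inv_eq]
    apply biprod.hom_ext <;> simp [e, Functor.map_comp]
  · change biprod.desc _ _ ≫ 𝟙 _ = e.inv ≫ G.map b
    rw [Category.comp_id]
    apply biprod.hom_ext' <;> simp [e, Functor.map_comp]
  · change _ ≫ (𝟙 (G.obj P))⟦(1 : ℤ)⟧' = 𝟙 _ ≫ _
    erw [CategoryTheory.Functor.map_id, Category.comp_id, Category.id_comp]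
    rfl

end General

variable {S S' R R' : Type u} [Category.{v} S] [Category.{v} S'] [Category.{v} R] [Category.{v} R']
  [Preadditive S] [Preadditive S'] [Preadditive R] [Preadditive R']
  [HasZeroObject S] [HasZeroObject S'] [HasZeroObject R] [HasZeroObject R']
  [HasShift S ℤ] [HasShift S' ℤ] [HasShift R ℤ] [HasShift R' ℤ]
  [∀ n : ℤ, (shiftFunctor S n).Additive] [∀ n : ℤ, (shiftFunctor S' n).Additive]
  [∀ n : ℤ, (shiftFunctor R n).Additive] [∀ n : ℤ, (shiftFunctor R' n).Additive]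
  [Pretriangulated S] [Pretriangulated S'] [Pretriangulated R] [Pretriangulated R']
  (q : W4c3perfectstacks.MVSq S S' R R')
  [q.jst.CommShift ℤ] [q.fst.CommShift ℤ] [q.jpst.CommShift ℤ] [q.gst.CommShift ℤ]
  [q.jst.IsTriangulated] [q.fst.IsTriangulated] [q.jpst.IsTriangulated] [q.gst.IsTriangulated]
  (hq : q.IsMV)

include hq

theorem isIso_jst_map_unit (N : S) : IsIso (q.jst.map (q.adjJ.unit.app N)) := by
  have := hq.isIso_counitJ
  exact isIso_left_of_fac (q.adjJ.left_triangle_components N) (IsIso.id _)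

omit hq in
theorem isIso_jpst_fst_map {X Y : S} (φ : X ⟶ Y) [IsIso (q.jst.map φ)] : IsIso (q.jpst.map (q.fst.map φ)) := by
  have h : q.jpst.map (q.fst.map φ) = q.e.inv.app X ≫ q.gst.map (q.jst.map φ) ≫ q.e.hom.app Y := by
    have := q.e.hom.naturality φ
    simp only [Functor.comp_map] at this
    rw [this, ← Category.assoc, Iso.inv_hom_id_app, Category.id_comp]
  rw [h]
  infer_instance

omit hq in
theorem isZero_jpst_fst {X : S} (h : IsZero (q.jst.obj X)) : IsZero (q.jpst.obj (q.fst.obj X)) :=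
  (q.gst.map_isZero h).of_iso (q.e.app X).symm

theorem detect {C : S} (hj : IsZero (q.jst.obj C)) (hf : IsZero (q.fst.obj C)) : IsZero C := by
  have := hq.isIso_unitF C hj
  letI : q.fls.Additive := q.adjF.right_adjoint_additive
  exact (q.fls.map_isZero hf).of_iso (asIso (q.adjF.unit.app C))

theorem isIso_of_detect {X Y : S} (φ : X ⟶ Y) (hj : IsIso (q.jst.map φ)) (hf : IsIso (q.fst.map φ)) : IsIso φ :=
  isIso_of_cone φ fun _ _ _ hT => detect q hq
    ((Triangle.isZero₃_iff_isIso₁ _ (q.jst.map_distinguished _ hT)).2 hj)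
    ((Triangle.isZero₃_iff_isIso₁ _ (q.fst.map_distinguished _ hT)).2 hf)

omit [∀ n : ℤ, (shiftFunctor S n).Additive] [∀ n : ℤ, (shiftFunctor S' n).Additive] hq in
theorem bcApp_naturality {X Y : S'} (h : X ⟶ Y) :
    q.jst.map (q.fls.map h) ≫ q.bcApp Y = q.bcApp X ≫ q.gls.map (q.jpst.map h) := by
  unfold W4c3perfectstacks.MVSq.bcApp
  have h1 := q.e.hom.naturality (q.fls.map h)
  have h2 := q.adjF.counit.naturality h
  simp only [Functor.comp_map, Functor.id_map, Functor.comp_obj, Functor.id_obj] at h1 h2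
  rw [← Category.assoc, ← q.adjG.unit_naturality]
  simp only [Category.assoc, ← Functor.map_comp]
  congr 2
  rw [← Category.assoc, h1, Category.assoc, ← Functor.map_comp, h2, Functor.map_comp]

theorem isIso_jst_fls_map {X Y : S'} (h : X ⟶ Y) [IsIso (q.jpst.map h)] : IsIso (q.jst.map (q.fls.map h)) := by
  have := hq.isIso_bcApp
  have h1 : IsIso (q.jst.map (q.fls.map h) ≫ q.bcApp Y) := by
    rw [bcApp_naturality]; infer_instance
  exact IsIso.of_isIso_comp_right _ (q.bcApp Y)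

/-- The component over `U` of an object glued by a triangle. -/
theorem isIso_jst_fst_comp {N L : S} {X W : S'} (h : X ⟶ W) [IsIso (q.jpst.map h)] {β : L ⟶ q.fls.obj W}
    {a : N ⟶ L ⊞ q.fls.obj X} {d : q.fls.obj W ⟶ N⟦(1 : ℤ)⟧}
    (hT : Triangle.mk a (biprod.desc β (-(q.fls.map h))) d ∈ distTriang S) :
    IsIso (q.jst.map (a ≫ biprod.fst)) := by
  obtain ⟨c', hc⟩ := map_distinguished_biprod q.jst hT (Iso.refl _)
  have := isIso_jst_fls_map q hq h
  have : IsIso (biprod.inr ≫ biprod.desc ((Iso.refl (q.jst.obj L)).inv ≫ q.jst.map (biprod.inl ≫ biprod.desc β (-(q.fls.map h))))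
      (q.jst.map (biprod.inr ≫ biprod.desc β (-(q.fls.map h))))) := by
    rw [biprod.inr_desc, biprod.inr_desc, Functor.map_neg]
    exact ⟨-inv (q.jst.map (q.fls.map h)), by rw [Preadditive.neg_comp_neg, IsIso.hom_inv_id],
      by rw [Preadditive.neg_comp_neg, IsIso.inv_hom_id]⟩
  have h' := isIso_fst_of_isIso_inr _ _ _ hc
  rwa [biprod.lift_fst, Iso.refl_hom, Category.comp_id] at h'

/-- The component over `X'` of an object glued by a triangle. -/
theorem isIso_fst_snd_comp {N L : S} {X W : S'} (h : X ⟶ W) [IsIso (q.jpst.map h)] {β : L ⟶ q.fls.obj W}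
    [IsIso (q.fst.map β ≫ q.adjF.counit.app W)]
    {a : N ⟶ L ⊞ q.fls.obj X} {d : q.fls.obj W ⟶ N⟦(1 : ℤ)⟧}
    (hT : Triangle.mk a (biprod.desc β (-(q.fls.map h))) d ∈ distTriang S) :
    IsIso (q.fst.map (a ≫ biprod.snd) ≫ q.adjF.counit.app X) := by
  letI := q.adjF.rightAdjointCommShift ℤ
  haveI := q.adjF.commShift_of_leftAdjoint ℤ
  haveI : q.fls.IsTriangulated := q.adjF.isTriangulated_rightAdjoint
  obtain ⟨G, g, δ, hG⟩ := distinguished_cocone_triangle₁ h
  let T := Triangle.mk g h δ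
  let T' := (q.fls ⋙ q.fst).mapTriangle.obj T
  let e : T' ⟶ T :=
    { hom₁ := q.adjF.counit.app G
      hom₂ := q.adjF.counit.app X
      hom₃ := q.adjF.counit.app W
      comm₁ := q.adjF.counit.naturality g
      comm₂ := q.adjF.counit.naturality h
      comm₃ := by
        change ((q.fls ⋙ q.fst).map δ ≫ ((q.fls ⋙ q.fst).commShiftIso (1 : ℤ)).hom.app G) ≫
          (q.adjF.counit.app G)⟦(1 : ℤ)⟧' = q.adjF.counit.app W ≫ δ
        refine (Category.assoc _ _ _).trans ?_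
        have h1 := NatTrans.shift_app_comm q.adjF.counit (1 : ℤ) G
        rw [show ((q.fls ⋙ q.fst).commShiftIso (1 : ℤ)).hom.app G ≫ (q.adjF.counit.app G)⟦(1 : ℤ)⟧' =
          q.adjF.counit.app (G⟦(1 : ℤ)⟧) by simpa using h1]
        exact q.adjF.counit.naturality δ }
  have : IsIso e.hom₁ := hq.isIso_counitF G
    ((Triangle.isZero₁_iff_isIso₂ _ (q.jpst.map_distinguished _ hG)).2 ‹_›)
  let eX : q.fst.obj L ≅ W := asIso (q.fst.map β ≫ q.adjF.counit.app W)
  obtain ⟨c', hc⟩ := map_distinguished_biprod q.fst hT eX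
  simp only [biprod.inl_desc, biprod.inr_desc, Functor.map_neg] at hc
  have h' := isIso_snd_of_split hG ((q.fls ⋙ q.fst).map_distinguished _ hG) e (eX.inv ≫ q.fst.map β)
    (by
      change (eX.inv ≫ q.fst.map β) ≫ q.adjF.counit.app W = 𝟙 W
      rw [Category.assoc]
      exact eX.inv_hom_id) _ _ hc
  have h3 : biprod.lift (q.fst.map (a ≫ biprod.fst) ≫ eX.hom) (q.fst.map (a ≫ biprod.snd)) ≫ biprod.snd ≫
      q.adjF.counit.app X = q.fst.map (a ≫ biprod.snd) ≫ q.adjF.counit.app X := biprod.lift_snd_assoc _ _ _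
  rw [← h3]
  exact h'

omit [HasZeroObject S] [HasZeroObject S'] [HasShift S ℤ] [HasShift S' ℤ] hq in
theorem fst_unit_counit (A : S) : q.fst.map (q.adjF.unit.app A) ≫ q.adjF.counit.app (q.fst.obj A) = 𝟙 _ :=
  q.adjF.left_triangle_components A

/-- Existence of the Mayer–Vietoris triangle. -/
theorem exists_triangle (N : S) :
    ∃ d : q.fls.obj (q.fst.obj (q.jls.obj (q.jst.obj N))) ⟶ N⟦(1 : ℤ)⟧,
      Triangle.mk (biprod.lift (q.adjJ.unit.app N) (q.adjF.unit.app N))
        (biprod.desc (q.adjF.unit.app (q.jls.obj (q.jst.obj N)))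
          (-(q.fls.map (q.fst.map (q.adjJ.unit.app N))))) d ∈ distTriang S := by
  let A := q.jls.obj (q.jst.obj N)
  let a := biprod.lift (q.adjJ.unit.app N) (q.adjF.unit.app N)
  let b := biprod.desc (q.adjF.unit.app A) (-(q.fls.map (q.fst.map (q.adjJ.unit.app N))))
  obtain ⟨N', a', d', hT⟩ := distinguished_cocone_triangle₁ b
  have hab : a ≫ b = 0 := by
    simp only [a, b, A, biprod.lift_desc, Preadditive.comp_neg]
    exact (congrArg (· + -(q.adjF.unit.app N ≫ q.fls.map (q.fst.map (q.adjJ.unit.app N))))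
      (q.adjF.unit_naturality (q.adjJ.unit.app N)).symm).trans (add_neg_cancel _)
  obtain ⟨φ, hφ⟩ : ∃ φ : N ⟶ N', a = φ ≫ a' := Triangle.coyoneda_exact₂ _ hT a hab
  have := isIso_jst_map_unit q hq N
  have := isIso_jpst_fst_map q (q.adjJ.unit.app N)
  have hj : IsIso (q.jst.map φ) := by
    have h1 := isIso_jst_fst_comp q hq (q.fst.map (q.adjJ.unit.app N)) hT
    exact isIso_left_of_fac (hh := isIso_jst_map_unit q hq N) (g := q.jst.map (a' ≫ biprod.fst))
      ((q.jst.map_comp _ _).symm.trans (congrArg q.jst.map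
        ((Category.assoc _ _ _).symm.trans ((congrArg (· ≫ biprod.fst) hφ.symm).trans (biprod.lift_fst _ _)))))
  have hf : IsIso (q.fst.map φ) := by
    have : IsIso (q.fst.map (q.adjF.unit.app A) ≫ q.adjF.counit.app
        (q.fst.obj ((q.jst ⋙ q.jls).obj N))) := (q.adjF.left_triangle_components A).symm ▸ (IsIso.id _)
    have h1 : IsIso (q.fst.map (a' ≫ biprod.snd) ≫ q.adjF.counit.app (q.fst.obj N)) :=
      isIso_fst_snd_comp q hq (q.fst.map (q.adjJ.unit.app N)) hT
    exact isIso_left_of_fac (hh := IsIso.id (q.fst.obj N))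
      (g := q.fst.map (a' ≫ biprod.snd) ≫ q.adjF.counit.app (q.fst.obj N))
      ((q.fst.map_comp_assoc _ _ _).symm.trans ((congrArg (fun z => q.fst.map z ≫ _)
        ((Category.assoc _ _ _).symm.trans ((congrArg (· ≫ biprod.snd) hφ.symm).trans (biprod.lift_snd _ _)))).trans
        (q.adjF.left_triangle_components N)))
  let eφ := @asIso _ _ _ _ φ (isIso_of_detect q hq φ hj hf)
  refine ⟨d' ≫ eφ.inv⟦(1 : ℤ)⟧', isomorphic_distinguished _ hT _
    (Triangle.isoMk _ _ eφ (Iso.refl _) (Iso.refl _) ?_ ?_ ?_)⟩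
  · change a ≫ 𝟙 _ = φ ≫ a'
    rw [Category.comp_id, hφ]
  · exact (Category.comp_id _).trans (Category.id_comp _).symm
  · change (d' ≫ eφ.inv⟦(1 : ℤ)⟧') ≫ eφ.hom⟦(1 : ℤ)⟧' = 𝟙 _ ≫ d'
    rw [Category.assoc, ← Functor.map_comp, Iso.inv_hom_id, CategoryTheory.Functor.map_id, Category.comp_id,
      Category.id_comp]

/-- Objects killed by `j^*` see nothing in `f_* f^* j_*`. -/
theorem hom_fls_fst_jls_eq_zero {X : S} (hX : IsZero (q.jst.obj X)) (Y : R)
    (h : X ⟶ q.fls.obj (q.fst.obj (q.jls.obj Y))) : h = 0 := by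
  have := hq.isIso_bc2App Y
  letI : q.fls.Additive := q.adjF.right_adjoint_additive
  have h1 : ∀ g : q.fst.obj X ⟶ q.fst.obj (q.jls.obj Y), g = 0 := fun g => by
    rw [← cancel_mono (q.bc2App Y), zero_comp]
    exact (q.adjJp.homEquiv _ _).symm.injective ((isZero_jpst_fst q hX).eq_of_src _ _)
  exact (q.adjF.homEquiv _ _).symm.injective ((h1 _).trans (h1 _).symm)

/-- Maps out of `f_* f^* j_* j^* N` are determined on the image of `f_* f^* N`. -/
theorem ext_of_comp {N : S} {Y : R}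
    {c c' : q.fls.obj (q.fst.obj (q.jls.obj (q.jst.obj N))) ⟶ q.fls.obj (q.fst.obj (q.jls.obj Y))}
    (h : q.fls.map (q.fst.map (q.adjJ.unit.app N)) ≫ c = q.fls.map (q.fst.map (q.adjJ.unit.app N)) ≫ c') :
    c = c' := by
  letI := q.adjF.rightAdjointCommShift ℤ
  haveI := q.adjF.commShift_of_leftAdjoint ℤ
  haveI : q.fls.IsTriangulated := q.adjF.isTriangulated_rightAdjoint
  obtain ⟨G, g, δ, hG⟩ := distinguished_cocone_triangle₁ (q.adjJ.unit.app N)
  let F := q.fst ⋙ q.fls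
  have hGj : IsZero (q.jst.obj G) :=
    (Triangle.isZero₁_iff_isIso₂ _ (q.jst.map_distinguished _ hG)).2 (isIso_jst_map_unit q hq N)
  obtain ⟨k, hk⟩ : ∃ k, c - c' = (F.mapTriangle.obj (Triangle.mk g (q.adjJ.unit.app N) δ)).mor₃ ≫ k :=
    Triangle.yoneda_exact₃ _ (F.map_distinguished _ hG) (c - c') (by
      change q.fls.map (q.fst.map (q.adjJ.unit.app N)) ≫ (c - c') = 0
      rw [Preadditive.comp_sub, h, sub_self])
  have := hq.isIso_unitF G hGj
  have hk0 : k = 0 := by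
    exact (cancel_epi ((q.adjF.unit.app G)⟦(1 : ℤ)⟧')).1 ((hom_fls_fst_jls_eq_zero q hq
      (((shiftFunctor R (1 : ℤ)).map_isZero hGj).of_iso ((q.jst.commShiftIso (1 : ℤ)).app G)) Y _).trans
        comp_zero.symm)
  rw [hk0, comp_zero] at hk
  exact sub_eq_zero.1 hk

/-- Naturality of the connecting maps. -/
theorem naturality {N₁ N₂ : S} (φ : N₁ ⟶ N₂)
    {d₁ : q.fls.obj (q.fst.obj (q.jls.obj (q.jst.obj N₁))) ⟶ N₁⟦(1 : ℤ)⟧}
    {d₂ : q.fls.obj (q.fst.obj (q.jls.obj (q.jst.obj N₂))) ⟶ N₂⟦(1 : ℤ)⟧}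
    (h₁ : Triangle.mk (biprod.lift (q.adjJ.unit.app N₁) (q.adjF.unit.app N₁))
        (biprod.desc (q.adjF.unit.app (q.jls.obj (q.jst.obj N₁)))
          (-(q.fls.map (q.fst.map (q.adjJ.unit.app N₁))))) d₁ ∈ distTriang S)
    (h₂ : Triangle.mk (biprod.lift (q.adjJ.unit.app N₂) (q.adjF.unit.app N₂))
        (biprod.desc (q.adjF.unit.app (q.jls.obj (q.jst.obj N₂)))
          (-(q.fls.map (q.fst.map (q.adjJ.unit.app N₂))))) d₂ ∈ distTriang S) :
    d₁ ≫ φ⟦(1 : ℤ)⟧' = q.fls.map (q.fst.map (q.jls.map (q.jst.map φ))) ≫ d₂ := by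
  obtain ⟨c, hc, hd⟩ := complete_distinguished_triangle_morphism _ _ h₁ h₂ φ
    (biprod.map (q.jls.map (q.jst.map φ)) (q.fls.map (q.fst.map φ))) (by
      change biprod.lift _ _ ≫ biprod.map _ _ = φ ≫ biprod.lift _ _
      apply biprod.hom_ext
      · simp only [Category.assoc, biprod.map_fst, biprod.lift_fst_assoc, biprod.lift_fst]
        exact q.adjJ.unit_naturality φ
      · simp only [Category.assoc, biprod.map_snd, biprod.lift_snd_assoc, biprod.lift_snd]
        exact q.adjF.unit_naturality φ)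
  obtain rfl : c = q.fls.map (q.fst.map (q.jls.map (q.jst.map φ))) := by
    refine ext_of_comp q hq (neg_injective ?_)
    have h := congrArg (biprod.inr ≫ ·) hc
    change biprod.inr ≫ biprod.desc _ _ ≫ c = biprod.inr ≫ biprod.map _ _ ≫ biprod.desc _ _ at h
    simp only [biprod.inr_desc_assoc, biprod.inr_map_assoc, biprod.inr_desc, Preadditive.neg_comp,
      Preadditive.comp_neg] at h
    refine (Preadditive.neg_comp _ _).symm.trans ((h.trans (Preadditive.comp_neg _ _)).trans (congrArg Neg.neg ?_))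
    refine (q.fls.map_comp _ _).symm.trans ((congrArg q.fls.map ?_).trans (q.fls.map_comp _ _))
    refine (q.fst.map_comp _ _).symm.trans ((congrArg q.fst.map ?_).trans (q.fst.map_comp _ _))
    exact (q.adjJ.unit_naturality φ).symm
  exact hd

/-- Maps out of `f_* M` for `M` killed on `U'` are computed after pullback. -/
theorem map_bijective {M : S'} (hM : IsZero (q.jpst.obj M)) (N : S) :
    Function.Bijective (fun g : q.fls.obj M ⟶ N => q.fst.map g) := by
  have hFM : IsZero (q.jst.obj (q.fls.obj M)) := by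
    have := hq.isIso_bcApp M
    letI : q.gls.Additive := q.adjG.right_adjoint_additive
    exact (q.gls.map_isZero hM).of_iso (asIso (q.bcApp M))
  have := hq.isIso_counitF M hM
  have hM' : IsZero (q.jpst.obj (q.fst.obj (q.fls.obj M))) := isZero_jpst_fst q hFM
  obtain ⟨G, g, δ, hG⟩ := distinguished_cocone_triangle₁ (q.adjJ.unit.app N)
  have hGj : IsZero (q.jst.obj G) :=
    (Triangle.isZero₁_iff_isIso₂ _ (q.jst.map_distinguished _ hG)).2 (isIso_jst_map_unit q hq N)
  have := hq.isIso_unitF G hGj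
  have hzero : ∀ (X : S), IsZero (q.jst.obj X) → ∀ z : X ⟶ q.jls.obj (q.jst.obj N), z = 0 := fun X hX z =>
    (q.adjJ.homEquiv _ _).symm.injective (hX.eq_of_src _ _)
  refine ⟨fun p p' h => ?_, fun h => ?_⟩
  · refine sub_eq_zero.1 ?_
    have h0 : q.fst.map (p - p') = 0 := by rw [Functor.map_sub]; exact sub_eq_zero.2 h
    obtain ⟨r, hr⟩ : ∃ r : q.fls.obj M ⟶ G, p - p' = r ≫ g :=
      Triangle.coyoneda_exact₂ _ hG _ (hzero _ hFM _)
    obtain ⟨w, hw⟩ : ∃ w, (q.fst.map r)⟦(1 : ℤ)⟧' = w ≫ (q.fst.mapTriangle.obj (Triangle.mk g (q.adjJ.unit.app N) δ)).mor₃ :=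
      Triangle.coyoneda_exact₁ _ (q.fst.map_distinguished _ hG) _ (by
        change (q.fst.map r)⟦(1 : ℤ)⟧' ≫ (q.fst.map g)⟦(1 : ℤ)⟧' = 0
        rw [← Functor.map_comp, ← Functor.map_comp, ← hr, h0, Functor.map_zero])
    have hw0 : w = 0 := by
      have := hq.isIso_bc2App (q.jst.obj N)
      exact (cancel_mono (q.bc2App (q.jst.obj N))).1 (((q.adjJp.homEquiv _ _).symm.injective
        ((((shiftFunctor R' (1 : ℤ)).map_isZero hM').of_iso
          ((q.jpst.commShiftIso (1 : ℤ)).app (q.fst.obj (q.fls.obj M)))).eq_of_src _ _)).trans zero_comp.symm)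
    have hr0 : q.fst.map r = 0 := by
      refine (shiftFunctor S' (1 : ℤ)).map_injective ?_
      rw [hw, hw0, zero_comp, Functor.map_zero]
      rfl
    have : r = 0 := by
      rw [← cancel_mono (q.adjF.unit.app G), ← q.adjF.unit_naturality r, hr0, zero_comp]
      letI : q.fls.Additive := q.adjF.right_adjoint_additive
      rw [Functor.map_zero, comp_zero]
    rw [hr, this, zero_comp]
  · obtain ⟨k, hk⟩ : ∃ k, h = k ≫ q.fst.map g := Triangle.coyoneda_exact₂ _ (q.fst.map_distinguished _ hG) h (by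
      have := hq.isIso_bc2App (q.jst.obj N)
      change h ≫ q.fst.map (q.adjJ.unit.app N) = 0
      rw [← cancel_mono (q.bc2App (q.jst.obj N)), zero_comp]
      exact (q.adjJp.homEquiv _ _).symm.injective (hM'.eq_of_src _ _))
    obtain ⟨r, hr⟩ : ∃ r : q.fls.obj M ⟶ G, q.fst.map r = k := by
      refine ⟨q.adjF.homEquiv _ _ k ≫ inv (q.adjF.unit.app G), ?_⟩
      apply (q.adjF.homEquiv _ _).injective
      rw [q.adjF.homEquiv_unit (q.fls.obj M) (q.fst.obj G) (q.fst.map _), q.adjF.unit_naturality, Category.assoc,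
        IsIso.inv_hom_id, Category.comp_id]
    exact ⟨r ≫ g, by rw [hk, ← hr]; exact q.fst.map_comp _ _⟩

/-- Glueing. -/
theorem glueing (NU : R) (N' : S') (δ : q.jpst.obj N' ≅ q.gst.obj NU) (N : S)
    (a : N ⟶ q.jls.obj NU ⊞ q.fls.obj N')
    (d : q.fls.obj (q.jpls.obj (q.gst.obj NU)) ⟶ N⟦(1 : ℤ)⟧)
    (hT : Triangle.mk a
      (biprod.desc (q.adjF.unit.app (q.jls.obj NU) ≫ q.fls.map (q.bc2App NU))
        (-(q.fls.map (q.adjJp.unit.app N' ≫ q.jpls.map δ.hom)))) d ∈ distTriang S) :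
    IsIso ((q.adjJ.homEquiv N NU).symm (a ≫ biprod.fst)) ∧
      IsIso ((q.adjF.homEquiv N N').symm (a ≫ biprod.snd)) := by
  have := hq.isIso_counitJ
  have := hq.isIso_counitJp
  have := hq.isIso_bc2App NU
  let h := q.adjJp.unit.app N' ≫ q.jpls.map δ.hom
  have hh : IsIso (q.jpst.map h) := by
    have h1 : IsIso (q.jpst.map h ≫ q.adjJp.counit.app (q.gst.obj NU)) := by
      rw [show q.jpst.map h ≫ q.adjJp.counit.app (q.gst.obj NU) = δ.hom by
        simp [h, Functor.map_comp, q.adjJp.counit_naturality]]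
      infer_instance
    exact IsIso.of_isIso_comp_right _ (q.adjJp.counit.app (q.gst.obj NU))
  refine ⟨?_, ?_⟩
  · have h1 := isIso_jst_fst_comp q hq h hT
    rw [Adjunction.homEquiv_counit]
    exact IsIso.comp_isIso' h1 (inferInstanceAs (IsIso (q.adjJ.counit.app NU)))
  · have : IsIso (q.fst.map (q.adjF.unit.app (q.jls.obj NU) ≫ q.fls.map (q.bc2App NU)) ≫
        q.adjF.counit.app (q.jpls.obj (q.gst.obj NU))) := by
      rw [Functor.map_comp, Category.assoc]
      refine ((congrArg (q.fst.map (q.adjF.unit.app (q.jls.obj NU)) ≫ ·) (q.adjF.counit.naturality (q.bc2App NU))).trans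
        ((Category.assoc _ _ _).symm.trans ((congrArg (· ≫ q.bc2App NU)
          (q.adjF.left_triangle_components (q.jls.obj NU))).trans (Category.id_comp _)))).symm ▸ ?_
      infer_instance
    have h2 := isIso_fst_snd_comp q hq h hT
    rwa [Adjunction.homEquiv_counit]

section Compact

omit [Pretriangulated S] [Pretriangulated S'] [Pretriangulated R] [Pretriangulated R'] hq in
theorem exists_supp_map_eq_zero {C D : Type u} [Category.{v} C] [Category.{v} D] [Preadditive C] [Preadditive D]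
    [HasCoproducts.{v} C] [HasCoproducts.{v} D] {F : C ⥤ D} {G : D ⥤ C} (adj : F ⊣ G) [F.Additive]
    {J : Type v} (X : J → C) {M : D} (hM : TriCat.HasFiniteSupport M) (z : M ⟶ F.obj (∐ X)) :
    ∃ s : Finset J, z ≫ F.map (𝟙 _ - TriCat.supp X s) = 0 := by
  classical
  haveI := adj.leftAdjoint_preservesColimits
  obtain ⟨s, hs⟩ := hM J (fun j => F.obj (X j)) (z ≫ inv (sigmaComparison F X))
  refine ⟨s, ?_⟩
  have e : TriCat.supp (fun j => F.obj (X j)) s ≫ sigmaComparison F X =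
      sigmaComparison F X ≫ F.map (TriCat.supp X s) := by
    refine Sigma.hom_ext _ _ fun j => ?_
    rw [← Category.assoc, TriCat.ι_supp, ← Category.assoc, ι_comp_sigmaComparison, ← Functor.map_comp,
      TriCat.ι_supp]
    by_cases hj : j ∈ s
    · rw [if_pos hj, if_pos hj, ι_comp_sigmaComparison]
    · rw [if_neg hj, if_neg hj, zero_comp, Functor.map_zero]
  have hb : z ≫ F.map (TriCat.supp X s) = z := by
    have h := congrArg (fun x => x ≫ sigmaComparison F X) hs
    simpa [e] using h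
  rw [Functor.map_sub, CategoryTheory.Functor.map_id, Preadditive.comp_sub, Category.comp_id, hb, sub_self]

omit [Pretriangulated S] [Pretriangulated S'] [Pretriangulated R] [Pretriangulated R'] hq in
theorem one_sub_union {C : Type u} [Category.{v} C] [Preadditive C] [HasCoproducts.{v} C]
    {J : Type v} [DecidableEq J] (X : J → C) {M : C} (b : M ⟶ ∐ X) (s t : Finset J)
    (h : b ≫ (𝟙 _ - TriCat.supp X s) ≫ (𝟙 _ - TriCat.supp X t) = 0) :
    b ≫ TriCat.supp X (s ∪ t) = b := by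
  rw [TriCat.one_sub_supp_mul, Preadditive.comp_sub, Category.comp_id, sub_eq_zero] at h
  convert h.symm using 3
  ext
  simp

variable [HasCoproducts.{v} S] [HasCoproducts.{v} S'] [HasCoproducts.{v} R] [HasCoproducts.{v} R']

/-- Compactness is local on a Mayer–Vietoris square. -/
theorem isCompactObject {N : S} (hU : CohDer.IsCompactObject (q.jst.obj N))
    (hX' : CohDer.IsCompactObject (q.fst.obj N))
    (hU' : CohDer.IsCompactObject (q.gst.obj (q.jst.obj N))) : CohDer.IsCompactObject N := by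
  classical
  rw [TriCat.isCompactObject_iff_hasFiniteSupport] at hU hX' hU' ⊢
  intro J X b
  obtain ⟨s₁, hs₁⟩ := exists_supp_map_eq_zero q.adjJ X hU (q.jst.map b)
  obtain ⟨s₂, hs₂⟩ := exists_supp_map_eq_zero q.adjF X hX' (q.fst.map b)
  let P := TriCat.supp X (s₁ ∪ s₂)
  let b' := b ≫ (𝟙 _ - P)
  have hP : ∀ {D : Type u} [Category.{v} D] [Preadditive D] (F : S ⥤ D) [F.Additive],
      F.map b ≫ F.map (𝟙 _ - TriCat.supp X s₁) = 0 ∨ F.map b ≫ F.map (𝟙 _ - TriCat.supp X s₂) = 0 →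
      F.map b' = 0 := by
    intro D _ _ F _ h
    rcases h with h | h
    · rw [show b' = (b ≫ (𝟙 _ - TriCat.supp X s₁)) ≫ (𝟙 _ - TriCat.supp X s₂) by
        rw [Category.assoc, TriCat.one_sub_supp_mul], Functor.map_comp,
        Functor.map_comp, h, zero_comp]
    · rw [show b' = (b ≫ (𝟙 _ - TriCat.supp X s₂)) ≫ (𝟙 _ - TriCat.supp X s₁) by
        rw [Category.assoc, TriCat.one_sub_supp_mul]; simp only [b', P, Finset.union_comm s₁],
        Functor.map_comp, Functor.map_comp, h, zero_comp]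
  obtain ⟨d, hd⟩ := exists_triangle q hq (∐ X)
  letI : q.jls.Additive := q.adjJ.right_adjoint_additive
  letI : q.fls.Additive := q.adjF.right_adjoint_additive
  letI : q.jpls.Additive := q.adjJp.right_adjoint_additive
  have hb : b' ≫ biprod.lift (q.adjJ.unit.app (∐ X)) (q.adjF.unit.app (∐ X)) = 0 := by
    apply biprod.hom_ext
    · rw [Category.assoc, biprod.lift_fst, zero_comp, ← q.adjJ.unit_naturality b', hP q.jst (Or.inl hs₁),
        Functor.map_zero, comp_zero]
    · rw [Category.assoc, biprod.lift_snd, zero_comp, ← q.adjF.unit_naturality b', hP q.fst (Or.inr hs₂),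
        Functor.map_zero, comp_zero]
  obtain ⟨w, hw⟩ : ∃ w, b'⟦(1 : ℤ)⟧' = w ≫ d := Triangle.coyoneda_exact₁ _ hd _ (by
    change b'⟦(1 : ℤ)⟧' ≫ (biprod.lift (q.adjJ.unit.app (∐ X)) (q.adjF.unit.app (∐ X)))⟦(1 : ℤ)⟧' = 0
    rw [← Functor.map_comp, hb, Functor.map_zero])
  -- transport `w` to `U'`
  let κ : ∀ Y : R, (N⟦(1 : ℤ)⟧ ⟶ q.fls.obj (q.fst.obj (q.jls.obj Y))) →
      (q.jpst.obj (q.fst.obj (N⟦(1 : ℤ)⟧)) ⟶ q.gst.obj Y) :=
    fun Y z => (q.adjJp.homEquiv _ _).symm ((q.adjF.homEquiv _ _).symm z ≫ q.bc2App Y)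
  have hκ : ∀ (Y Y' : R) (u : Y ⟶ Y') z,
      κ Y' (z ≫ q.fls.map (q.fst.map (q.jls.map u))) = κ Y z ≫ q.gst.map u := fun Y Y' u z => by
    have hn : q.fst.map (q.jls.map u) ≫ q.bc2App Y' = q.bc2App Y ≫ q.jpls.map (q.gst.map u) := by
      unfold W4c3perfectstacks.MVSq.bc2App
      have h1 := q.e.inv.naturality (q.jls.map u)
      have h2 := q.adjJ.counit.naturality u
      simp only [Functor.comp_map, Functor.id_map, Functor.comp_obj, Functor.id_obj] at h1 h2
      rw [← Category.assoc, ← q.adjJp.unit_naturality]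
      simp only [Category.assoc, ← Functor.map_comp]
      congr 2
      rw [← Category.assoc, h1, Category.assoc, ← Functor.map_comp, h2, Functor.map_comp]
    simp only [κ]
    rw [Adjunction.homEquiv_naturality_right_symm, Category.assoc, hn, ← Category.assoc,
      Adjunction.homEquiv_naturality_right_symm]
  have hU'' : TriCat.HasFiniteSupport (q.jpst.obj (q.fst.obj (N⟦(1 : ℤ)⟧))) :=
    TriCat.hasFiniteSupport_of_iso (((q.jst ⋙ q.gst).commShiftIso (1 : ℤ)).app N).symm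
      (TriCat.hasFiniteSupport_shift hU' 1) |> TriCat.hasFiniteSupport_of_iso (q.e.app (N⟦(1 : ℤ)⟧))
  obtain ⟨t, ht⟩ := exists_supp_map_eq_zero (q.adjJ.comp q.adjG) X hU'' (κ _ w)
  have hw0 : w ≫ q.fls.map (q.fst.map (q.jls.map (q.jst.map (𝟙 _ - TriCat.supp X t)))) = 0 := by
    have h := hκ _ _ (q.jst.map (𝟙 _ - TriCat.supp X t)) w
    rw [show κ (q.jst.obj (∐ X)) w ≫ q.gst.map (q.jst.map (𝟙 _ - TriCat.supp X t)) = 0 from ht] at h
    have := hq.isIso_bc2App (q.jst.obj (∐ X))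
    refine (q.adjF.homEquiv _ _).symm.injective ?_
    rw [← cancel_mono (q.bc2App (q.jst.obj (∐ X)))]
    refine (q.adjJp.homEquiv _ _).symm.injective (h.trans ?_)
    simp [Adjunction.homEquiv_counit]
  refine ⟨(s₁ ∪ s₂) ∪ t, one_sub_union X b _ _ ?_⟩
  refine (shiftFunctor S (1 : ℤ)).map_injective ?_
  rw [← Category.assoc, Functor.map_comp, Functor.map_zero]
  change b'⟦(1 : ℤ)⟧' ≫ (𝟙 _ - TriCat.supp X t)⟦(1 : ℤ)⟧' = 0
  rw [hw, Category.assoc, naturality q hq (𝟙 _ - TriCat.supp X t) hd hd, ← Category.assoc, hw0, zero_comp]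

end Compact

end GrothLib.MV
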