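import Groth.Agent.Lib.TriCat.Hocolim
import Mathlib.Algebra.BigOperators.Intervals

/-! # Homotopy colimits of subsequences -/

universe v u

open CategoryTheory CategoryTheory.Limits CategoryTheory.Pretriangulated

namespace GrothLib.TriCat

variable {D : Type u} [Category.{v} D] [Preadditive D]

/-- The transition map `F a ⟶ F b`, zero unless `a ≤ b`. -/
noncomputable def seqT (F : ℕ ⥤ D) (a b : ℕ) : F.obj a ⟶ F.obj b :=
  if h : a ≤ b then F.map (homOfLE h) else 0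

lemma seqT_of_le (F : ℕ ⥤ D) {a b : ℕ} (h : a ≤ b) : seqT F a b = F.map (homOfLE h) := dif_pos h

lemma seqT_self (F : ℕ ⥤ D) (a : ℕ) : seqT F a a = 𝟙 _ := by
  rw [seqT_of_le F le_rfl]
  exact F.map_id a

lemma seqT_comp (F : ℕ ⥤ D) {a b c : ℕ} (h : a ≤ b) (h' : b ≤ c) :
    seqT F a b ≫ seqT F b c = seqT F a c := by
  rw [seqT_of_le F h, seqT_of_le F h', seqT_of_le F (h.trans h'), ← F.map_comp]
  rfl

variable [HasZeroObject D] [HasShift D ℤ]
  [∀ n : ℤ, (shiftFunctor D n).Additive] [Pretriangulated D]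

theorem hocolim_subsequence_iso (F : ℕ ⥤ D) (n : ℕ → ℕ) (hn : StrictMono n)
    [HasCoproduct (fun m : ℕ => F.obj m)] [HasCoproduct (fun i : ℕ => F.obj (n i))]
    {L : D} {ι : ∀ m : ℕ, F.obj m ⟶ L}
    (hL : DerLim.IsHocolim (fun m : ℕ => F.obj m) (fun m : ℕ => F.map (homOfLE (Nat.le_succ m))) L ι)
    {L' : D} {ι' : ∀ i : ℕ, F.obj (n i) ⟶ L'}
    (hL' : DerLim.IsHocolim (fun i : ℕ => F.obj (n i)) (fun i : ℕ => F.map (homOfLE (hn.monotone (Nat.le_succ i)))) L' ι') :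
    ∃ e : L' ≅ L, ∀ i : ℕ, ι' i ≫ e.hom = ι (n i) := by
  classical
  have hex : ∀ m, ∃ i, m ≤ n i := fun m => ⟨m, hn.id_le m⟩
  let σ : ℕ → ℕ := fun m => Nat.find (hex m)
  have σle : ∀ m, m ≤ n (σ m) := fun m => Nat.find_spec (hex m)
  have σmin : ∀ m i, m ≤ n i → σ m ≤ i := fun m i h => Nat.find_min' (hex m) h
  have σn : ∀ k, σ (n k) = k := fun k => le_antisymm (σmin _ _ le_rfl) (hn.le_iff_le.1 (σle (n k)))
  have σmono : ∀ m, σ m ≤ σ (m + 1) := fun m => σmin _ _ ((Nat.le_succ m).trans (σle (m + 1)))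
  have hsucc : ∀ i, n i < n (i + 1) := fun i => hn i.lt_succ_self
  have σeq : ∀ m, m = n (σ m) → σ (m + 1) = σ m + 1 := fun m h => by
    refine le_antisymm (σmin _ _ ?_) ?_
    · have := hsucc (σ m); omega
    · have h1 := σle (m + 1)
      have : n (σ m) < n (σ (m + 1)) := by omega
      exact hn.lt_iff_lt.1 this
  have σne : ∀ m, m ≠ n (σ m) → σ (m + 1) = σ m := fun m h =>
    le_antisymm (σmin _ _ (by have := σle m; omega)) (σmono m)
  have σbetween : ∀ k j, n k < j → j ≤ n (k + 1) → σ j = k + 1 := fun k j h h' =>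
    le_antisymm (σmin _ _ h') (hn.lt_iff_lt.1 (h.trans_le (σle j)))
  set K : ℕ → D := fun m => F.obj m
  set K' : ℕ → D := fun i => F.obj (n i)
  set f : ∀ m, K m ⟶ K (m + 1) := fun m => F.map (homOfLE (Nat.le_succ m))
  set f' : ∀ i, K' i ⟶ K' (i + 1) := fun i => F.map (homOfLE (hn.monotone (Nat.le_succ i)))
  have hf : ∀ m, f m = seqT F m (m + 1) := fun m => (seqT_of_le F (Nat.le_succ m)).symm
  have hf' : ∀ i, f' i = seqT F (n i) (n (i + 1)) := fun i => (seqT_of_le F _).symm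
  let d : (∐ K) ⟶ ∐ K := 𝟙 _ - DerLim.shiftMap K f
  let d' : (∐ K') ⟶ ∐ K' := 𝟙 _ - DerLim.shiftMap K' f'
  have ιd : ∀ m, Sigma.ι K m ≫ d = Sigma.ι K m - f m ≫ Sigma.ι K (m + 1) := fun m => by
    simp [d, Preadditive.comp_sub, DerLim.shiftMap]
  have ιd' : ∀ i, Sigma.ι K' i ≫ d' = Sigma.ι K' i - f' i ≫ Sigma.ι K' (i + 1) := fun i => by
    simp [d', Preadditive.comp_sub, DerLim.shiftMap]
  let r : (∐ K') ⟶ ∐ K :=
    Sigma.desc fun i => ∑ j ∈ Finset.Ico (n i) (n (i + 1)), seqT F (n i) j ≫ Sigma.ι K j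
  let s : (∐ K') ⟶ ∐ K := Sigma.desc fun i => Sigma.ι K (n i)
  let q : (∐ K) ⟶ ∐ K' := Sigma.desc fun m =>
    if m = n (σ m) then seqT F m (n (σ m)) ≫ Sigma.ι K' (σ m) else 0
  let t : (∐ K) ⟶ ∐ K' := Sigma.desc fun m => seqT F m (n (σ m)) ≫ Sigma.ι K' (σ m)
  have hrd : d' ≫ s = r ≫ d := by
    refine Sigma.hom_ext _ _ fun i => ?_
    rw [reassoc_of% ιd', Preadditive.sub_comp, Category.assoc, Sigma.ι_desc, Sigma.ι_desc,
      Sigma.ι_desc_assoc, Preadditive.sum_comp]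
    have hi : n i ≤ n (i + 1) := hn.monotone (Nat.le_succ i)
    rw [Finset.sum_congr rfl (g := fun j => seqT F (n i) j ≫ Sigma.ι K j -
      seqT F (n i) (j + 1) ≫ Sigma.ι K (j + 1)) (fun j hj => by
        rw [Category.assoc, ιd, Preadditive.comp_sub, hf, ← Category.assoc,
          seqT_comp F (Finset.mem_Ico.1 hj).1 (Nat.le_succ j)])]
    rw [← neg_inj, ← Finset.sum_neg_distrib]
    simp only [neg_sub]
    rw [Finset.sum_Ico_sub (fun j => seqT F (n i) j ≫ Sigma.ι K j) hi, seqT_self, Category.id_comp,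
      hf']
  have hqd : d ≫ t = q ≫ d' := by
    refine Sigma.hom_ext _ _ fun m => ?_
    rw [reassoc_of% ιd, Preadditive.sub_comp, Category.assoc, Sigma.ι_desc, Sigma.ι_desc,
      Sigma.ι_desc_assoc, hf]
    by_cases h : m = n (σ m)
    · rw [if_pos h, Category.assoc, ιd', Preadditive.comp_sub, hf', σeq m h, ← Category.assoc,
        ← Category.assoc, seqT_comp F (σle m) (hn.monotone (Nat.le_succ _)), seqT_comp F (Nat.le_succ m)
          (by have := hsucc (σ m); omega)]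
    · rw [if_neg h, zero_comp, σne m h, ← Category.assoc,
        seqT_comp F (Nat.le_succ m) (by have := σle m; omega), sub_self]
  have hrq : r ≫ q = 𝟙 _ := by
    refine Sigma.hom_ext _ _ fun i => ?_
    rw [Sigma.ι_desc_assoc, Preadditive.sum_comp, Category.comp_id]
    refine (Finset.sum_eq_single_of_mem (n i) (Finset.mem_Ico.2 ⟨le_rfl, hsucc i⟩) ?_).trans ?_
    · intro j hj hne
      have hj' := Finset.mem_Ico.1 hj
      rw [Category.assoc, Sigma.ι_desc, if_neg, comp_zero]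
      rw [σbetween i j (by omega) (by omega)]
      omega
    · rw [Category.assoc, Sigma.ι_desc, if_pos (by rw [σn]), seqT_self, Category.id_comp, σn]
      rw [seqT_self, Category.id_comp]
  have hst : s ≫ t = 𝟙 _ := by
    refine Sigma.hom_ext _ _ fun i => ?_
    rw [Sigma.ι_desc_assoc, Category.comp_id, Sigma.ι_desc, σn, seqT_self, Category.id_comp]
  let h : (∐ K) ⟶ ∐ K :=
    Sigma.desc fun m => ∑ j ∈ Finset.Ico m (n (σ m)), seqT F m j ≫ Sigma.ι K j
  have hh : 𝟙 _ - q ≫ r = d ≫ h := by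
    refine Sigma.hom_ext _ _ fun m => ?_
    rw [Preadditive.comp_sub, Category.comp_id, Sigma.ι_desc_assoc, reassoc_of% ιd,
      Preadditive.sub_comp, Category.assoc, Sigma.ι_desc, Sigma.ι_desc, Preadditive.comp_sum, hf]
    rw [Finset.sum_congr rfl (s₁ := Finset.Ico (m + 1) (n (σ (m + 1))))
      (g := fun j => seqT F m j ≫ Sigma.ι K j) (fun j hj => by
        rw [← Category.assoc, seqT_comp F (Nat.le_succ m) (Finset.mem_Ico.1 hj).1])]
    by_cases hm : m = n (σ m)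
    · rw [if_pos hm, Category.assoc, Sigma.ι_desc, Preadditive.comp_sum, σeq m hm]
      rw [Finset.sum_congr rfl (s₁ := Finset.Ico (n (σ m)) (n (σ m + 1)))
        (g := fun j => seqT F m j ≫ Sigma.ι K j) (fun j hj => by
          rw [← Category.assoc, seqT_comp F (σle m) (Finset.mem_Ico.1 hj).1])]
      have hlt : m < n (σ m + 1) := by have := hsucc (σ m); omega
      rw [← hm, Finset.Ico_self, Finset.sum_empty, Finset.sum_eq_sum_Ico_succ_bot hlt, seqT_self,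
        Category.id_comp]
      abel
    · have hlt : m < n (σ m) := by have := σle m; omega
      rw [if_neg hm, zero_comp, σne m hm, Finset.sum_eq_sum_Ico_succ_bot hlt, seqT_self,
        Category.id_comp]
      abel
  have hι : ∀ m b, m ≤ b → seqT F m b ≫ ι b = ι m := by
    intro m b hb
    induction b, hb using Nat.le_induction with
    | base => rw [seqT_self, Category.id_comp]
    | succ b hb ih =>
      rw [← seqT_comp F hb (Nat.le_succ b), Category.assoc, ← hf, isHocolim_comp hL, ih]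
  obtain ⟨c, hT⟩ := hL
  obtain ⟨c', hT'⟩ := hL'
  obtain ⟨φ, hφ, hφc⟩ : ∃ φ : L' ⟶ L, Sigma.desc ι' ≫ φ = s ≫ Sigma.desc ι ∧
      c' ≫ r⟦(1 : ℤ)⟧' = φ ≫ c :=
    complete_distinguished_triangle_morphism _ _ hT' hT r s hrd
  obtain ⟨ψ, hψ, hψc⟩ : ∃ ψ : L ⟶ L', Sigma.desc ι ≫ ψ = t ≫ Sigma.desc ι' ∧
      c ≫ q⟦(1 : ℤ)⟧' = ψ ≫ c' :=
    complete_distinguished_triangle_morphism _ _ hT hT' q t hqd
  have hφι : ∀ i, ι' i ≫ φ = ι (n i) := fun i => by
    simpa [s, Sigma.ι_desc_assoc] using congrArg (Sigma.ι K' i ≫ ·) hφ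
  let θ : Triangle.mk d' (Sigma.desc ι') c' ⟶ Triangle.mk d' (Sigma.desc ι') c' :=
    Triangle.homMk _ _ (𝟙 _) (𝟙 _) (φ ≫ ψ)
      (by change d' ≫ 𝟙 _ = 𝟙 _ ≫ d'; rw [Category.comp_id, Category.id_comp])
      (by
        change Sigma.desc ι' ≫ φ ≫ ψ = 𝟙 _ ≫ Sigma.desc ι'
        rw [reassoc_of% hφ, hψ, reassoc_of% hst, Category.id_comp])
      (by
        change c' ≫ (𝟙 (∐ K'))⟦(1 : ℤ)⟧' = (φ ≫ ψ) ≫ c'
        rw [← hrq, Functor.map_comp, reassoc_of% hφc, hψc, Category.assoc])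
  have hiso : IsIso (φ ≫ ψ) :=
    isIso₃_of_isIso₁₂ θ hT' hT' (inferInstanceAs (IsIso (𝟙 (∐ K')))) (inferInstanceAs (IsIso (𝟙 (∐ K'))))
  have hepi : Epi φ := by
    refine Preadditive.epi_of_cancel_zero _ fun {W} a ha => ?_
    have hia : Sigma.desc ι ≫ a = 0 := by
      refine Sigma.hom_ext _ _ fun m => ?_
      rw [Sigma.ι_desc_assoc, comp_zero, ← hι m _ (σle m), Category.assoc, ← hφι, Category.assoc, ha,
        comp_zero, comp_zero]
    obtain ⟨z, hz⟩ : ∃ z : (∐ K)⟦(1 : ℤ)⟧ ⟶ W, a = c ≫ z := Triangle.yoneda_exact₃ _ hT a hia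
    have hcz : c' ≫ r⟦(1 : ℤ)⟧' ≫ z = 0 := by rw [reassoc_of% hφc, ← hz, ha]
    obtain ⟨z', hz'⟩ : ∃ z' : (∐ K')⟦(1 : ℤ)⟧ ⟶ W, r⟦(1 : ℤ)⟧' ≫ z = (-d'⟦(1 : ℤ)⟧') ≫ z' :=
      Triangle.yoneda_exact₃ _ (rot_of_distTriang _ hT') _ hcz
    have hcd : c ≫ d⟦(1 : ℤ)⟧' = 0 := comp_distTriang_mor_zero₃₁ _ hT
    have h1 : z = d⟦(1 : ℤ)⟧' ≫ (h⟦(1 : ℤ)⟧' ≫ z - t⟦(1 : ℤ)⟧' ≫ z') := by
      rw [Preadditive.comp_sub, ← Category.assoc, ← Functor.map_comp, ← hh, ← Category.assoc,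
        ← Functor.map_comp, hqd, Functor.map_comp, Category.assoc, Functor.map_sub, Preadditive.sub_comp,
        CategoryTheory.Functor.map_id, Category.id_comp, Functor.map_comp, Category.assoc, hz',
        Preadditive.neg_comp, Preadditive.comp_neg]
      abel
    rw [hz, h1, reassoc_of% hcd, zero_comp]
  have : IsSplitMono φ := IsSplitMono.mk' ⟨ψ ≫ inv (φ ≫ ψ), by rw [← Category.assoc, IsIso.hom_inv_id]⟩
  have : IsIso φ := isIso_of_epi_of_isSplitMono φ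
  exact ⟨asIso φ, hφι⟩

end GrothLib.TriCat
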