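import Groth.Agent.Lib.TriCat.Cohomological
import Mathlib.Algebra.Category.Grp.Preadditive

/-! # Brown representability gives products -/

universe v u

open CategoryTheory CategoryTheory.Limits CategoryTheory.Pretriangulated Opposite
open CategoryTheory.Pretriangulated.Opposite

namespace GrothLib.TriCat

variable {D : Type u} [Category.{v} D] [Preadditive D] {J : Type v} (X : J → D)

/-- The functor `Y ↦ ∏ t, Hom(Y, X t)`. -/
noncomputable def piYoneda : Dᵒᵖ ⥤ AddCommGrpCat.{v} where
  obj Y := AddCommGrpCat.of (∀ t, Y.unop ⟶ X t)
  map {Y Z} f := AddCommGrpCat.ofHom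
    { toFun := fun x t => f.unop ≫ x t
      map_zero' := funext fun t => Limits.comp_zero
      map_add' := fun x y => funext fun t => Preadditive.comp_add _ _ _ _ (x t) (y t) }
  map_id Y := by ext x t; exact Category.id_comp (x t)
  map_comp f g := by ext x t; exact Category.assoc g.unop f.unop (x t)

theorem piYoneda_preservesLimitsOfShape [HasCoproducts.{v} D] (κ : Type v) :
    PreservesLimitsOfShape (Discrete κ) (piYoneda X) :=
  ⟨fun {F} => by
    let K : κ → D := fun k => (F.obj ⟨k⟩).unop
    have : PreservesLimit (Discrete.functor fun k => op (K k)) (piYoneda X) :=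
      preservesLimit_of_preserves_limit_cone (Cofan.IsColimit.op (coproductIsCoproduct K))
        ((isLimitMapConeFanMkEquiv _ _ _).symm <| Fan.IsLimit.mk _
          (fun s => AddCommGrpCat.ofHom
            { toFun := fun x t => Sigma.desc fun k => (ConcreteCategory.hom (s.proj k)) x t
              map_zero' := funext fun t => Sigma.hom_ext _ _ fun k => by simp; rfl
              map_add' := fun x y => funext fun t => Sigma.hom_ext _ _ fun k => by simp; rfl })
          (fun s k => by ext x; exact funext fun t => Sigma.ι_desc _ _)
          (fun s m hm => by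
            ext x
            exact funext fun t => Sigma.hom_ext _ _ fun k =>
              (congrFun (ConcreteCategory.congr_hom (hm k) x) t).trans
                (Sigma.ι_desc (fun l => (ConcreteCategory.hom (s.proj l)) x t) k).symm))
    exact preservesLimit_of_iso_diagram _
      (Discrete.natIso fun k => Iso.refl _ : Discrete.functor (fun k => op (K k)) ≅ F)⟩

variable [HasZeroObject D] [HasShift D ℤ] [∀ n : ℤ, (shiftFunctor D n).Additive] [Pretriangulated D]

instance : (piYoneda X).IsHomological :=
  have : (piYoneda X).PreservesZeroMorphisms :=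
    ⟨fun Y Z => by ext x; exact funext fun t => Limits.zero_comp⟩
  { exact := fun T hT => by
      rw [ShortComplex.ab_exact_iff]
      intro x hx
      choose z hz using fun t => Triangle.yoneda_exact₂ _ (unop_distinguished T hT) (x t)
        (congrFun hx t)
      exact ⟨z, funext fun t => (hz t).symm⟩ }

theorem hasProducts_of_brown [HasCoproducts.{v} D]
    (hB : ∀ (H : Dᵒᵖ ⥤ AddCommGrpCat.{v}) [H.IsHomological]
      [∀ (ι : Type v), PreservesLimitsOfShape (Discrete ι) H],
      (H ⋙ forget AddCommGrpCat.{v}).IsRepresentable) : HasProducts.{v} D := by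
  intro J
  refine ⟨fun F => ?_⟩
  let X : J → D := fun j => F.obj ⟨j⟩
  have := piYoneda_preservesLimitsOfShape X
  have := hB (piYoneda X)
  let P := (piYoneda X ⋙ forget AddCommGrpCat.{v}).reprX
  let r := (piYoneda X ⋙ forget AddCommGrpCat.{v}).representableBy
  let π : ∀ j, P ⟶ X j := r.homEquiv (𝟙 P)
  have key : ∀ {Y : D} (a : Y ⟶ P) (j : J), r.homEquiv a j = a ≫ π j := by
    intro Y a j
    have := congrFun (r.homEquiv_comp a (𝟙 P)) j
    rwa [Category.comp_id] at this
  have : HasProduct (F.obj ∘ Discrete.mk) := ⟨⟨⟨Fan.mk P π, Fan.IsLimit.mk _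
    (fun s => r.homEquiv.symm fun j => s.proj j)
    (fun s j => by
      change _ ≫ π j = _
      rw [← key, Equiv.apply_symm_apply])
    (fun s m hm => r.homEquiv.injective (funext fun j => by
      rw [key, Equiv.apply_symm_apply]
      exact hm j))⟩⟩⟩
  exact hasLimit_of_iso (Discrete.natIsoFunctor (F := F)).symm

end GrothLib.TriCat
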