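import Groth.Agent.Lib.TriCat.Compact

/-! # Maps from compact objects into sums factor through finite sub-sums -/

universe v u

open CategoryTheory CategoryTheory.Limits CategoryTheory.Pretriangulated

namespace GrothLib.TriCat

variable {D : Type u} [Category.{v} D] [Preadditive D] [HasZeroObject D] [HasShift D ℤ]
  [∀ n : ℤ, (shiftFunctor D n).Additive] [Pretriangulated D]

theorem prop_biprod (P : ObjectProperty D) [P.IsTriangulated] [P.IsClosedUnderIsomorphisms]
    {X Y : D} (hX : P X) (hY : P Y) : P (X ⊞ Y) :=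
  P.ext_of_isTriangulatedClosed₂ _ (binaryBiproductTriangle_distinguished X Y) hX hY

theorem factor_through_finite [HasCoproducts.{v} D] (P : ObjectProperty D) [P.IsTriangulated]
    [P.IsClosedUnderIsomorphisms] {C : D} {J : Type v} (X : J → D) (b : C ⟶ ∐ X)
    (s : Finset J) (hs : b ≫ supp X s = b) (hP : ∀ j ∈ s, P (X j)) :
    ∃ (F : D) (g : C ⟶ F) (h : F ⟶ ∐ X), P F ∧ g ≫ h = b := by
  classical
  suffices ∃ (F : D) (g : (∐ X) ⟶ F) (h : F ⟶ ∐ X), P F ∧ g ≫ h = supp X s by
    obtain ⟨F, g, h, hF, e⟩ := this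
    exact ⟨F, b ≫ g, h, hF, by rw [Category.assoc, e, hs]⟩
  clear hs
  rw [supp_eq_sum]
  induction s using Finset.induction_on with
  | empty =>
    obtain ⟨Z, hZ, hPZ⟩ := P.exists_prop_of_containsZero
    exact ⟨Z, 0, 0, hPZ, by simp⟩
  | insert a t ha ih =>
    obtain ⟨F, g, h, hF, e⟩ := ih fun j hj => hP j (Finset.mem_insert_of_mem hj)
    refine ⟨X a ⊞ F, biprod.lift (Sigma.π X a) g, biprod.desc (Sigma.ι X a) h,
      prop_biprod P (hP a (Finset.mem_insert_self a t)) hF, ?_⟩
    rw [biprod.lift_desc, Finset.sum_insert ha, e]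

end GrothLib.TriCat
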