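import Groth.Agent.Lib.TriCat.Orthogonal
import Mathlib.CategoryTheory.Adjunction.PartialAdjoint

/-! # Objects admitting approximations form a triangulated subcategory -/

universe v u

open CategoryTheory CategoryTheory.Limits CategoryTheory.Pretriangulated
open scoped ZeroObject

namespace GrothLib.TriCat

variable {D : Type u} [Category.{v} D] [Preadditive D] [HasZeroObject D] [HasShift D ℤ]
  [∀ n : ℤ, (shiftFunctor D n).Additive] [Pretriangulated D]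
  (P : ObjectProperty D) [P.IsTriangulated]

theorem isTriangulated_hasCoreflection :
    ObjectProperty.IsTriangulated
      (fun X : D => ∃ (A : D) (f : A ⟶ X), P A ∧ IsCoreflection P f) where
  exists_zero := by
    obtain ⟨Z, hZ, hPZ⟩ := P.exists_prop_of_containsZero
    exact ⟨Z, hZ, Z, 𝟙 Z, hPZ, fun A' _ =>
      ⟨fun u v _ => hZ.eq_of_tgt u v, fun q => ⟨q, Category.comp_id q⟩⟩⟩
  toIsStableUnderShift := ⟨fun m => ⟨fun X ⟨A, f, hA, hf⟩ =>
    ⟨A⟦m⟧, f⟦m⟧', P.le_shift m _ hA, hf.shift m⟩⟩⟩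
  toIsTriangulatedClosed₂ := by
    refine ⟨fun T hT ⟨A₁, f₁, hA₁, hf₁⟩ ⟨A₃, f₃, hA₃, hf₃⟩ => ObjectProperty.le_isoClosure _ _ ?_⟩
    obtain ⟨a, ha⟩ := ((hf₁.shift (1 : ℤ)) A₃ hA₃).2 (f₃ ≫ T.mor₃)
    obtain ⟨A₂, g, h, hT'⟩ := distinguished_cocone_triangle₂ a
    obtain ⟨f₂, h₁, h₂⟩ := complete_distinguished_triangle_morphism₂ _ T hT' hT f₁ f₃ ha
    let φ : Triangle.mk g h a ⟶ T :=
      { hom₁ := f₁, hom₂ := f₂, hom₃ := f₃, comm₁ := h₁, comm₂ := h₂, comm₃ := ha }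
    obtain ⟨A, hA, ⟨e⟩⟩ := P.ext_of_isTriangulatedClosed₂' _ hT' hA₁ hA₃
    refine ⟨A, e.inv ≫ f₂, hA, fun A' hA' => ?_⟩
    have hb : Function.Bijective fun u : A' ⟶ A₂ => u ≫ f₂ :=
      ⟨postcomp_hom₂_injective φ hT' hT A' (hf₁ A' hA').1 (hf₃ A' hA').1
        ((hf₃.shift (-1 : ℤ)) A' hA').2,
      postcomp_hom₂_surjective φ hT' hT A' (hf₁ A' hA').2 (hf₃ A' hA').2
        ((hf₁.shift (1 : ℤ)) A' hA').1⟩
    have : Function.Bijective fun u : A' ⟶ A => u ≫ e.inv :=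
      ⟨fun u v huv => (cancel_mono e.inv).1 huv, fun q => ⟨q ≫ e.hom, by simp⟩⟩
    rw [show (fun u : A' ⟶ A => u ≫ e.inv ≫ f₂) = (fun u : A' ⟶ A₂ => u ≫ f₂) ∘ (fun u => u ≫ e.inv)
      from funext fun u => (Category.assoc u e.inv f₂).symm]
    exact hb.comp this

theorem isTriangulated_hasReflection :
    ObjectProperty.IsTriangulated
      (fun X : D => ∃ (B : D) (g : X ⟶ B), P B ∧ IsReflection P g) where
  exists_zero := by
    obtain ⟨Z, hZ, hPZ⟩ := P.exists_prop_of_containsZero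
    exact ⟨Z, hZ, Z, 𝟙 Z, hPZ, fun A' _ =>
      ⟨fun u v _ => hZ.eq_of_src u v, fun q => ⟨q, Category.id_comp q⟩⟩⟩
  toIsStableUnderShift := ⟨fun m => ⟨fun X ⟨A, f, hA, hf⟩ =>
    ⟨A⟦m⟧, f⟦m⟧', P.le_shift m _ hA, hf.shift m⟩⟩⟩
  toIsTriangulatedClosed₂ := by
    refine ⟨fun T hT ⟨A₁, f₁, hA₁, hf₁⟩ ⟨A₃, f₃, hA₃, hf₃⟩ => ObjectProperty.le_isoClosure _ _ ?_⟩
    obtain ⟨a, ha⟩ := (hf₃ _ (P.le_shift (1 : ℤ) _ hA₁)).2 (T.mor₃ ≫ f₁⟦(1 : ℤ)⟧')
    obtain ⟨A₂, g, h, hT'⟩ := distinguished_cocone_triangle₂ a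
    obtain ⟨f₂, h₁, h₂⟩ := complete_distinguished_triangle_morphism₂ T _ hT hT' f₁ f₃ ha.symm
    let φ : T ⟶ Triangle.mk g h a :=
      { hom₁ := f₁, hom₂ := f₂, hom₃ := f₃, comm₁ := h₁, comm₂ := h₂, comm₃ := ha.symm }
    obtain ⟨A, hA, ⟨e⟩⟩ := P.ext_of_isTriangulatedClosed₂' _ hT' hA₁ hA₃
    refine ⟨A, f₂ ≫ e.hom, hA, fun B hB => ?_⟩
    have hb : Function.Bijective fun u : A₂ ⟶ B => f₂ ≫ u :=
      ⟨precomp_hom₂_injective φ hT hT' B (hf₁ B hB).1 (hf₃ B hB).1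
        ((hf₁.shift (1 : ℤ)) B hB).2,
      precomp_hom₂_surjective φ hT hT' B (hf₁ B hB).2 (hf₃ B hB).2
        ((hf₃.shift (-1 : ℤ)) B hB).1⟩
    have : Function.Bijective fun u : A ⟶ B => e.hom ≫ u :=
      ⟨fun u v huv => (cancel_epi e.hom).1 huv, fun q => ⟨e.inv ≫ q, by simp⟩⟩
    rw [show (fun u : A ⟶ B => (f₂ ≫ e.hom) ≫ u) = (fun u : A₂ ⟶ B => f₂ ≫ u) ∘ (fun u => e.hom ≫ u)
      from funext fun u => Category.assoc f₂ e.hom u]
    exact hb.comp this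

theorem isLeftAdjoint_ι_iff :
    P.ι.IsLeftAdjoint ↔ ∀ X : D, ∃ (A : D) (f : A ⟶ X), P A ∧ IsCoreflection P f := by
  constructor
  · intro _ X
    let adj := Adjunction.ofIsLeftAdjoint P.ι
    refine ⟨_, adj.counit.app X, (P.ι.rightAdjoint.obj X).2, fun A' hA' => ?_⟩
    have e : (fun u : A' ⟶ (P.ι.rightAdjoint.obj X).obj => u ≫ adj.counit.app X) =
        (adj.homEquiv ⟨A', hA'⟩ X).symm ∘ (P.fullyFaithfulι.homEquiv).symm := funext fun u => by
      simp [Adjunction.homEquiv_counit]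
      rfl
    exact Eq.mpr (congrArg Function.Bijective e)
      ((Equiv.bijective _).comp (Equiv.bijective _))
  · intro h
    refine P.ι.isLeftAdjoint_of_rightAdjointObjIsDefined_eq_top (funext fun X => ?_)
    simp only [Pi.top_apply, Prop.top_eq_true, eq_iff_iff, iff_true]
    rw [Functor.rightAdjointObjIsDefined_iff]
    obtain ⟨A, f, hA, hf⟩ := h X
    exact Functor.RepresentableBy.isRepresentable (Y := ⟨A, hA⟩)
      { homEquiv := fun {A'} => P.fullyFaithfulι.homEquiv.trans (Equiv.ofBijective _ (hf _ A'.2))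
        homEquiv_comp := fun {A' A''} a b => Category.assoc a.hom b.hom f }

theorem isRightAdjoint_ι_iff :
    P.ι.IsRightAdjoint ↔ ∀ X : D, ∃ (B : D) (g : X ⟶ B), P B ∧ IsReflection P g := by
  constructor
  · intro _ X
    let adj := Adjunction.ofIsRightAdjoint P.ι
    refine ⟨_, adj.unit.app X, (P.ι.leftAdjoint.obj X).2, fun A' hA' => ?_⟩
    have e : (fun u : (P.ι.leftAdjoint.obj X).obj ⟶ A' => adj.unit.app X ≫ u) =
        (adj.homEquiv X ⟨A', hA'⟩) ∘ (P.fullyFaithfulι.homEquiv).symm := funext fun u => by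
      simp [Adjunction.homEquiv_unit]
      rfl
    exact Eq.mpr (congrArg Function.Bijective e)
      ((Equiv.bijective _).comp (Equiv.bijective _))
  · intro h
    refine P.ι.isRightAdjoint_of_leftAdjointObjIsDefined_eq_top (funext fun X => ?_)
    simp only [Pi.top_apply, Prop.top_eq_true, eq_iff_iff, iff_true]
    rw [Functor.leftAdjointObjIsDefined_iff]
    obtain ⟨A, f, hA, hf⟩ := h X
    exact Functor.CorepresentableBy.isCorepresentable (X := ⟨A, hA⟩)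
      { homEquiv := fun {A'} => P.fullyFaithfulι.homEquiv.trans (Equiv.ofBijective _ (hf _ A'.2))
        homEquiv_comp := fun {A' A''} a b => (Category.assoc f b.hom a.hom).symm }

end GrothLib.TriCat
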