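import Groth.Agent.Lib.TriCat.Coproduct
import Groth.Agent.Lib.TriCat.Hocolim
import Mathlib.CategoryTheory.Yoneda

/-! # Brown representability for perfectly generated triangulated categories

Elementwise version of Krause's proof (Neeman's theorem for perfect generators): the generators
form a family closed under shifts up to isomorphism. -/

universe v u

open CategoryTheory CategoryTheory.Limits CategoryTheory.Pretriangulated Opposite
open CategoryTheory.Pretriangulated.Opposite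

namespace GrothLib.TriCat

variable {D : Type u} [Category.{v} D] [Preadditive D]

/-- Countable coproducts preserve epimorphisms as seen by the family `E`. -/
def IsPerfectFamily [HasColimitsOfShape (Discrete ℕ) D] {ι : Type v} (E : ι → D) : Prop :=
  ∀ (A B : ℕ → D) (φ : ∀ n, A n ⟶ B n),
    (∀ n k (b : E k ⟶ B n), ∃ a : E k ⟶ A n, a ≫ φ n = b) →
      ∀ k (b : E k ⟶ ∐ B), ∃ a : E k ⟶ ∐ A, a ≫ Limits.Sigma.map φ = b

/-- The family is closed under all shifts, up to isomorphism. -/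
def IsShiftClosedFamily [HasShift D ℤ] {ι : Type v} (E : ι → D) : Prop :=
  ∀ k (m : ℤ), ∃ k', Nonempty ((E k)⟦m⟧ ≅ E k')

theorem exists_perfect_cover [HasCoproducts.{v} D] {ι : Type v} (E : ι → D) (X : D) :
    ∃ (κ : Type v) (a : κ → ι) (p : (∐ fun j => E (a j)) ⟶ X),
      ∀ k (b : E k ⟶ X), ∃ b', b' ≫ p = b :=
  ⟨Σ k, (E k ⟶ X), fun j => j.1, Sigma.desc fun j => j.2,
    fun k b => ⟨Sigma.ι (fun j : Σ k, (E k ⟶ X) => E j.1) ⟨k, b⟩, Sigma.ι_desc _ _⟩⟩

variable [HasZeroObject D] [HasShift D ℤ] [∀ n : ℤ, (shiftFunctor D n).Additive]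
  [Pretriangulated D]
  {ι : Type v} {E : ι → D}

theorem eq_zero_of_shift_family {X Y : D} (φ : X ⟶ Y) (hs : IsShiftClosedFamily E)
    (hφ : ∀ k (a : E k ⟶ X), a ≫ φ = 0 → a = 0) {k : ι} (e : E k ⟶ X⟦(1 : ℤ)⟧)
    (he : e ≫ φ⟦(1 : ℤ)⟧' = 0) : e = 0 := by
  obtain ⟨k', ⟨i⟩⟩ := hs k (-1)
  have h0 : i.inv ≫ e⟦(-1 : ℤ)⟧' ≫ (shiftFunctorCompIsoId D (1 : ℤ) (-1) (by omega)).hom.app X
      = 0 := by
    refine hφ k' _ ?_
    have := (shiftFunctorCompIsoId D (1 : ℤ) (-1) (by omega)).hom.naturality φ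
    dsimp at this
    simp [← this, ← Functor.map_comp_assoc, he]
  have h1 : e⟦(-1 : ℤ)⟧' = 0 := by
    rwa [← comp_zero (f := i.inv), cancel_epi, ← zero_comp
      (f := (shiftFunctorCompIsoId D (1 : ℤ) (-1) (by omega)).hom.app X), cancel_mono] at h0
  exact (shiftFunctor D (-1 : ℤ)).map_injective (by rw [h1, Functor.map_zero])

/-- A map inducing bijections on the maps out of a detecting shift-closed family is invertible. -/
theorem exists_cone_of_bijective_on_family (hs : IsShiftClosedFamily E) {X Y : D} (φ : X ⟶ Y)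
    (hinj : ∀ k (a : E k ⟶ X), a ≫ φ = 0 → a = 0)
    (hsurj : ∀ k (b : E k ⟶ Y), ∃ a, a ≫ φ = b) :
    ∃ (C : D) (g : Y ⟶ C) (h : C ⟶ X⟦(1 : ℤ)⟧), Triangle.mk φ g h ∈ distTriang D ∧
      ∀ k (e : E k ⟶ C), e = 0 := by
  obtain ⟨C, g, h, hT⟩ := distinguished_cocone_triangle φ
  refine ⟨C, g, h, hT, fun k e => ?_⟩
  have heh : e ≫ h = 0 := by
    refine eq_zero_of_shift_family φ hs hinj (e ≫ h) ?_
    rw [Category.assoc, show h ≫ φ⟦(1 : ℤ)⟧' = 0 from comp_distTriang_mor_zero₃₁ _ hT, comp_zero]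
  obtain ⟨e', he'⟩ : ∃ e' : E k ⟶ Y, e = e' ≫ g := Triangle.coyoneda_exact₃ _ hT e heh
  obtain ⟨a, rfl⟩ := hsurj k e'
  rw [he', Category.assoc, show φ ≫ g = 0 from comp_distTriang_mor_zero₁₂ _ hT, comp_zero]

theorem isIso_of_bijective_on_family (hs : IsShiftClosedFamily E)
    (h1 : ∀ X : D, (∀ k (f : E k ⟶ X), f = 0) → IsZero X) {X Y : D} (φ : X ⟶ Y)
    (hinj : ∀ k (a : E k ⟶ X), a ≫ φ = 0 → a = 0)
    (hsurj : ∀ k (b : E k ⟶ Y), ∃ a, a ≫ φ = b) : IsIso φ := by
  obtain ⟨C, g, h, hT, h0⟩ := exists_cone_of_bijective_on_family hs φ hinj hsurj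
  exact (Triangle.isZero₃_iff_isIso₁ _ hT).1 (h1 C h0)

variable {H : Dᵒᵖ ⥤ AddCommGrpCat.{v}} [H.IsHomological]
  [HasCoproducts.{v} D] [HasColimitsOfShape (Discrete ℕ) D]

/-- The core of Krause's argument. -/
theorem bijective_res_hocolim (hs : IsShiftClosedFamily E) (hperf : IsPerfectFamily E)
    {K : ℕ → D} {f : ∀ n, K n ⟶ K (n + 1)} (x : ∀ n, H.obj (op (K n)))
    (hx : ∀ n, res H (f n) (x (n + 1)) = x n)
    (hsurj : ∀ k (y : H.obj (op (E k))), ∃ a : E k ⟶ K 0, res H a (x 0) = y)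
    (hkill : ∀ n k (a : E k ⟶ K n), res H a (x n) = 0 → a ≫ f n = 0)
    {L : D} {i : ∀ n, K n ⟶ L} (hL : DerLim.IsHocolim K f L i) (z : H.obj (op L))
    (hz : ∀ n, res H (i n) z = x n) (k : ι) :
    Function.Bijective (fun a : E k ⟶ L => res H a z) := by
  let g : ∀ n, K 0 ⟶ K n := fun n => Nat.rec (𝟙 _) (fun m h => h ≫ f m) n
  let g' : ∀ n, K 1 ⟶ K (n + 1) := fun n => Nat.rec (𝟙 _) (fun m h => h ≫ f (m + 1)) n
  have hgx : ∀ n, res H (g n) (x n) = x 0 := fun n => by
    induction n with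
    | zero => exact res_id H _
    | succ m ih => exact (res_comp H (g m) (f m) _).trans (by rw [hx, ih])
  have hgi : ∀ n, g n ≫ i n = i 0 := fun n => by
    induction n with
    | zero => exact Category.id_comp _
    | succ m ih =>
      exact (Category.assoc (g m) (f m) (i (m + 1))).trans (by rw [isHocolim_comp hL, ih])
  have hgg' : ∀ n, g (n + 1) = f 0 ≫ g' n := fun n => by
    induction n with
    | zero => exact (Category.id_comp _).trans (Category.comp_id _).symm
    | succ m ih =>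
      change g (m + 1) ≫ f (m + 1) = f 0 ≫ g' m ≫ f (m + 1)
      rw [ih, Category.assoc]
  choose κ a p hp using fun n => exists_perfect_cover E (K n)
  have hq : ∀ n, ∃ q : (∐ fun j => E (a n j)) ⟶ K 0, q ≫ g (n + 1) = p n ≫ f n := by
    intro n
    choose q hq using fun j =>
      hsurj (a n j) (res H (Sigma.ι (fun j => E (a n j)) j ≫ p n) (x n))
    refine ⟨Sigma.desc q, Sigma.hom_ext _ _ fun j => ?_⟩
    rw [Sigma.ι_desc_assoc]
    change q j ≫ g n ≫ f n = _
    rw [← sub_eq_zero, ← Category.assoc (q j), ← Category.assoc (Sigma.ι _ j),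
      ← Preadditive.sub_comp]
    refine hkill n _ _ ?_
    rw [res_sub, res_comp, hgx, hq, sub_self]
  choose q hq using hq
  -- kernel of the telescope on the family
  have hker : ∀ (k : ι) (u : E k ⟶ ∐ fun _ : ℕ => K 0),
      u ≫ Limits.Sigma.map g = 0 → u ≫ Limits.Sigma.map (fun _ : ℕ => f 0) = 0 := by
    intro k u hu
    choose W w c hW using fun n => distinguished_cocone_triangle₁ (g n)
    obtain ⟨v, hv⟩ : ∃ v : E k ⟶ ∐ W, u = v ≫ Limits.Sigma.map w :=
      Triangle.coyoneda_exact₂ _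
        (sigmaTriangle_distinguished (fun n => Triangle.mk (w n) (g n) (c n)) hW) u hu
    choose κ' a' p' hp' using fun n => exists_perfect_cover E (W n)
    obtain ⟨v', rfl⟩ := hperf _ W p' hp' k v
    have : Limits.Sigma.map p' ≫ Limits.Sigma.map w ≫ Limits.Sigma.map (fun _ : ℕ => f 0) = 0 := by
      refine Sigma.hom_ext _ _ fun n => ?_
      rw [comp_zero, ← Category.assoc, Sigma.ι_map, Category.assoc, ← Category.assoc (Sigma.ι _ n),
        Sigma.ι_map, Category.assoc, Sigma.ι_map, ← Category.assoc, ← Category.assoc]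
      suffices (p' n ≫ w n) ≫ f 0 = 0 by rw [this, zero_comp]
      refine Sigma.hom_ext _ _ fun j => ?_
      rw [comp_zero, ← Category.assoc]
      refine hkill 0 _ _ ?_
      rw [← hgx n, ← res_comp, Category.assoc, Category.assoc,
        show w n ≫ g n = 0 from comp_distTriang_mor_zero₁₂ _ (hW n), comp_zero, comp_zero,
        res_zero]
    rw [hv, Category.assoc, Category.assoc, this, comp_zero]
  have hinj : ∀ (k : ι) (β : E k ⟶ ∐ K), β ≫ (𝟙 _ - DerLim.shiftMap K f) = 0 → β = 0 := by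
    intro k β hβ
    have hβ' : β ≫ DerLim.shiftMap K f = β := by
      rw [Preadditive.comp_sub, Category.comp_id, sub_eq_zero] at hβ
      exact hβ.symm
    obtain ⟨γ, hγ⟩ := hperf _ K p hp k β
    let S₀ := DerLim.shiftMap (fun _ : ℕ => K 0) (fun _ => 𝟙 (K 0))
    let S₁ := DerLim.shiftMap (fun _ : ℕ => K 1) (fun _ => 𝟙 (K 1))
    let u := γ ≫ Limits.Sigma.map q ≫ S₀
    have eG : S₀ ≫ Limits.Sigma.map g = Limits.Sigma.map g ≫ DerLim.shiftMap K f := by
      refine Sigma.hom_ext _ _ fun n => ?_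
      rw [← Category.assoc, ι_shiftMap, Category.assoc, Sigma.ι_map, Category.id_comp,
        ← Category.assoc, Sigma.ι_map]
      conv_rhs => rw [Category.assoc, ι_shiftMap, ← Category.assoc]
    have eu : u ≫ Limits.Sigma.map g = β := by
      have : Limits.Sigma.map q ≫ S₀ ≫ Limits.Sigma.map g =
          Limits.Sigma.map p ≫ DerLim.shiftMap K f := by
        refine Sigma.hom_ext _ _ fun n => ?_
        simp only [S₀, Sigma.ι_map_assoc, ← Category.assoc, ι_shiftMap]
        simp only [Category.assoc, Category.id_comp, Sigma.ι_map, ι_shiftMap]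
        rw [← Category.assoc, hq, Category.assoc]
      simp only [u, Category.assoc, this]
      rw [← Category.assoc, hγ, hβ']
    clear_value u
    have eS : S₀ ≫ Limits.Sigma.map (fun _ : ℕ => f 0) =
        Limits.Sigma.map (fun _ : ℕ => f 0) ≫ S₁ := by
      refine Sigma.hom_ext _ _ fun n => ?_
      simp only [S₀, S₁, ← Category.assoc, ι_shiftMap, Sigma.ι_map]
      simp only [Category.assoc, Category.id_comp, Sigma.ι_map, ι_shiftMap]
    have hw : u ≫ Limits.Sigma.map (fun _ : ℕ => f 0) = 0 := by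
      have h0 := hker k (u - u ≫ S₀) (by
        rw [Preadditive.sub_comp, Category.assoc, eG, ← Category.assoc, eu, hβ', sub_self])
      rw [Preadditive.sub_comp, Category.assoc, eS, ← Category.assoc] at h0
      obtain ⟨r, hr⟩ := exists_retraction_one_sub_shiftMap_const (K 1)
      rw [← Category.comp_id (u ≫ Limits.Sigma.map fun _ : ℕ => f 0), ← hr, ← Category.assoc,
        Preadditive.comp_sub, Category.comp_id, h0, zero_comp]
    have eR : Limits.Sigma.map g ≫ DerLim.shiftMap K f =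
        Limits.Sigma.map (fun _ : ℕ => f 0) ≫ Sigma.desc (fun n => g' n ≫ Sigma.ι K (n + 1)) := by
      refine Sigma.hom_ext _ _ fun n => ?_
      simp only [Sigma.ι_map_assoc, ι_shiftMap, Sigma.ι_desc]
      rw [← Category.assoc, ← Category.assoc]
      exact congrArg (· ≫ Sigma.ι K (n + 1)) (hgg' n)
    rw [← hβ', ← eu, Category.assoc, eR, ← Category.assoc, hw, zero_comp]
  refine ⟨fun a₁ a₂ h => ?_, fun y => ?_⟩
  · obtain ⟨α, rfl⟩ : ∃ α, a₁ = a₂ + α := ⟨a₁ - a₂, by abel⟩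
    replace h : res H α z = 0 := by
      simpa [res_add] using h
    suffices α = 0 by rw [this, add_zero]
    obtain ⟨c, hT⟩ := hL
    have hαc : α ≫ c = 0 := by
      refine eq_zero_of_shift_family (𝟙 _ - DerLim.shiftMap K f) hs hinj (α ≫ c) ?_
      rw [Category.assoc, show c ≫ (𝟙 _ - DerLim.shiftMap K f)⟦(1 : ℤ)⟧' = 0 from
        comp_distTriang_mor_zero₃₁ _ hT, comp_zero]
    obtain ⟨β, rfl⟩ : ∃ β : E k ⟶ ∐ K, α = β ≫ Sigma.desc i :=
      Triangle.coyoneda_exact₃ _ hT α hαc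
    obtain ⟨γ, rfl⟩ := hperf _ K p hp k β
    have e : (γ ≫ Limits.Sigma.map p) ≫ Sigma.desc i = (γ ≫ Sigma.desc q) ≫ i 0 := by
      rw [Category.assoc, Category.assoc]
      congr 1
      refine Sigma.hom_ext _ _ fun n => ?_
      rw [Sigma.ι_map_assoc, Sigma.ι_desc, Sigma.ι_desc_assoc, ← hgi (n + 1),
        ← Category.assoc, hq, Category.assoc, isHocolim_comp ⟨c, hT⟩]
    rw [e] at h ⊢
    rw [res_comp, hz] at h
    rw [← isHocolim_comp ⟨c, hT⟩ 0, ← Category.assoc, hkill 0 k _ h, zero_comp]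
  · obtain ⟨b, hb⟩ := hsurj k y
    exact ⟨b ≫ i 0, (res_comp H b (i 0) z).trans (by rw [hz]; exact hb)⟩

variable [∀ (κ : Type v), PreservesLimitsOfShape (Discrete κ) H]

omit [HasColimitsOfShape (Discrete ℕ) D] in
/-- Successively kill the classes vanishing under `H`. -/
theorem exists_killing_sequence (K₀ : D) (x₀ : H.obj (op K₀)) :
    ∃ (K : ℕ → D) (f : ∀ n, K n ⟶ K (n + 1)) (x : ∀ n, H.obj (op (K n))) (e : K₀ ≅ K 0),
      res H e.hom (x 0) = x₀ ∧ (∀ n, res H (f n) (x (n + 1)) = x n) ∧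
      (∀ n k (a : E k ⟶ K n), res H a (x n) = 0 → a ≫ f n = 0) ∧
      (∀ n, ∃ (κ : Type v) (a : κ → ι) (y : (∐ fun j => E (a j)) ⟶ K n)
        (z : K (n + 1) ⟶ (∐ fun j => E (a j))⟦(1 : ℤ)⟧),
        Triangle.mk y (f n) z ∈ distTriang D) := by
  have step : ∀ s : Σ X : D, H.obj (op X), ∃ (s' : Σ X : D, H.obj (op X)) (f : s.1 ⟶ s'.1),
      res H f s'.2 = s.2 ∧ (∀ k (a : E k ⟶ s.1), res H a s.2 = 0 → a ≫ f = 0) ∧
      ∃ (κ : Type v) (a : κ → ι) (y : (∐ fun j => E (a j)) ⟶ s.1)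
        (z : s'.1 ⟶ (∐ fun j => E (a j))⟦(1 : ℤ)⟧), Triangle.mk y f z ∈ distTriang D := by
    rintro ⟨X, t⟩
    let κ := Σ k, {a : E k ⟶ X // res H a t = 0}
    let y : (∐ fun j : κ => E j.1) ⟶ X := Sigma.desc fun j => j.2.1
    obtain ⟨X', f, z, hT⟩ := distinguished_cocone_triangle y
    obtain ⟨t', ht'⟩ := exists_res_eq_of_distTriang H _ hT t (res_ι_ext H _ fun j => by
      change res H (Sigma.ι (fun j : κ => E j.1) j) (res H y t) = res H _ 0
      rw [← res_comp, Sigma.ι_desc, res_map_zero]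
      exact j.2.2)
    refine ⟨⟨X', t'⟩, f, ht', fun k a ha => ?_, κ, fun j => j.1, y, z, hT⟩
    have := congrArg (fun w => Sigma.ι (fun j : κ => E j.1) ⟨k, a, ha⟩ ≫ w)
      (show y ≫ f = 0 from comp_distTriang_mor_zero₁₂ _ hT)
    simpa [y] using this
  choose s' f' h₁ h₂ h₃ using step
  let S : ℕ → Σ X : D, H.obj (op X) := fun n => Nat.rec ⟨K₀, x₀⟩ (fun _ t => s' t) n
  exact ⟨fun n => (S n).1, fun n => f' (S n), fun n => (S n).2, Iso.refl _, res_id H _,
    fun n => h₁ (S n), fun n => h₂ (S n), fun n => h₃ (S n)⟩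

theorem preservesLimitsOfShape_nat (F : Dᵒᵖ ⥤ AddCommGrpCat.{v})
    [∀ (κ : Type v), PreservesLimitsOfShape (Discrete κ) F] :
    PreservesLimitsOfShape (Discrete ℕ) F :=
  preservesLimitsOfShape_of_equiv (Discrete.equivalence Equiv.ulift.{v, 0}) F

/-- Extend a given family of sections to one which is universal on the generators. -/
theorem exists_extension (hs : IsShiftClosedFamily E) (hperf : IsPerfectFamily E)
    {J : Type v} (Z : J → D) (z : ∀ j, H.obj (op (Z j))) :
    ∃ (L : D) (x : H.obj (op L)) (j : ∀ j, Z j ⟶ L),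
      (∀ t, res H (j t) x = z t) ∧ ∀ k, Function.Bijective (fun a : E k ⟶ L => res H a x) := by
  have := preservesLimitsOfShape_nat H
  let W : J ⊕ (Σ k, H.obj (op (E k))) → D := Sum.elim Z (fun p => E p.1)
  obtain ⟨x₀, hx₀⟩ := exists_res_ι H W fun p => match p with
    | .inl j => z j
    | .inr p => p.2
  obtain ⟨K, f, x, e, he, hx, hkill, -⟩ := exists_killing_sequence (E := E) (H := H) (∐ W) x₀
  obtain ⟨L, i, hL⟩ := exists_isHocolim K f
  obtain ⟨t, ht⟩ := exists_res_hocolim (A := H) hL x hx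
  refine ⟨L, t, fun j => Sigma.ι W (.inl j) ≫ e.hom ≫ i 0, fun j => ?_,
    bijective_res_hocolim hs hperf x hx (fun k y => ⟨Sigma.ι W (.inr ⟨k, y⟩) ≫ e.hom, ?_⟩)
      hkill hL t ht⟩
  · rw [res_comp, res_comp, ht, he]
    exact hx₀ (.inl j)
  · rw [res_comp, he]
    exact hx₀ (.inr ⟨k, y⟩)

/-- **Brown representability** for a perfectly generated triangulated category. -/
theorem isRepresentable_of_perfect (hs : IsShiftClosedFamily E) (hperf : IsPerfectFamily E)
    (h1 : ∀ X : D, (∀ k (f : E k ⟶ X), f = 0) → IsZero X) :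
    (H ⋙ forget AddCommGrpCat.{v}).IsRepresentable := by
  have iso : ∀ {L L' : D} (x : H.obj (op L)) (x' : H.obj (op L')),
      (∀ k, Function.Bijective (fun a : E k ⟶ L => res H a x)) →
      (∀ k, Function.Bijective (fun a : E k ⟶ L' => res H a x')) →
      ∀ φ : L ⟶ L', res H φ x' = x → IsIso φ := by
    intro L L' x x' hx hx' φ hφ
    refine isIso_of_bijective_on_family hs h1 φ (fun k a ha => (hx k).1 ?_) fun k b => ?_
    · change res H a x = res H 0 x
      rw [res_zero, ← hφ, ← res_comp, ha, res_zero]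
    · obtain ⟨a, ha⟩ := (hx k).2 (res H b x')
      exact ⟨a, (hx' k).1 (by change res H (a ≫ φ) x' = _; rw [res_comp, hφ]; exact ha)⟩
  obtain ⟨L, x, -, -, hL⟩ := exists_extension (H := H) hs hperf
    (PEmpty.elim : PEmpty.{v + 1} → D) (fun j => j.elim)
  suffices hbij : ∀ T : D, Function.Bijective (fun a : T ⟶ L => res H a x) from
    Functor.RepresentableBy.isRepresentable
      (⟨fun {T} => Equiv.ofBijective _ (hbij T), fun {T T'} a b => res_comp H a b x⟩ :
        (H ⋙ forget AddCommGrpCat.{v}).RepresentableBy L)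
  intro T
  refine ⟨fun a₁ a₂ ha => ?_, fun y => ?_⟩
  · obtain ⟨a, rfl⟩ : ∃ a, a₁ = a₂ + a := ⟨a₁ - a₂, by abel⟩
    replace ha : res H a x = 0 := by simpa [res_add] using ha
    suffices a = 0 by rw [this, add_zero]
    obtain ⟨C, g, h, hT⟩ := distinguished_cocone_triangle a
    obtain ⟨xC, hxC⟩ := exists_res_eq_of_distTriang H _ hT x ha
    change res H g xC = x at hxC
    obtain ⟨L', x', j, hj, hL'⟩ := exists_extension (H := H) hs hperf
      (fun _ : PUnit.{v + 1} => C) (fun _ => xC)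
    have := iso x x' hL hL' (g ≫ j ⟨⟩) (by rw [res_comp, hj, hxC])
    rw [← cancel_mono (g ≫ j ⟨⟩), zero_comp, ← Category.assoc,
      show a ≫ g = 0 from comp_distTriang_mor_zero₁₂ _ hT, zero_comp]
  · obtain ⟨L', x', j, hj, hL'⟩ := exists_extension (H := H) hs hperf
      (fun b : ULift.{v} Bool => cond b.down L T)
      (fun b => match b with
        | ⟨true⟩ => x
        | ⟨false⟩ => y)
    have := iso x x' hL hL' (j ⟨true⟩) (hj ⟨true⟩)
    refine ⟨j ⟨false⟩ ≫ inv (j ⟨true⟩), ?_⟩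
    change res H _ x = y
    rw [show x = res H (j ⟨true⟩) x' from (hj ⟨true⟩).symm, ← res_comp, Category.assoc,
      IsIso.inv_hom_id, Category.comp_id]
    exact hj ⟨false⟩

end GrothLib.TriCat
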