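import Groth.Agent.Lib.TriCat.BrownCorollaries
import Groth.Agent.Lib.TriCat.Hocolim
import Mathlib.CategoryTheory.Triangulated.Generators
import Mathlib.CategoryTheory.Triangulated.Orthogonal

/-! # Maps from compact objects to homotopy colimits; envelopes and generation -/

universe v u

open CategoryTheory CategoryTheory.Limits CategoryTheory.Pretriangulated Opposite

namespace GrothLib.TriCat

variable {D : Type u} [Category.{v} D] [Preadditive D] [HasZeroObject D] [HasShift D ℤ]
  [∀ n : ℤ, (shiftFunctor D n).Additive] [Pretriangulated D]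

section Hocolim

variable [HasCoproducts.{v} D] [HasColimitsOfShape (Discrete ℕ) D]

/-- A map from a finitely supported object to a countable coproduct is a finite sum. -/
theorem exists_sum_ι_of_hasFiniteSupport {C : D} (hC : HasFiniteSupport C) (K : ℕ → D)
    (b : C ⟶ ∐ K) :
    ∃ N : ℕ, b = ∑ j ∈ Finset.range N, (b ≫ Sigma.π K j) ≫ Sigma.ι K j := by
  classical
  let K' : ULift.{v} ℕ → D := fun n => K n.down
  let e : (∐ K) ⟶ ∐ K' := Sigma.desc fun n => Sigma.ι K' ⟨n⟩
  let e' : (∐ K') ⟶ ∐ K := Sigma.desc fun n => Sigma.ι K n.down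
  have he : e ≫ e' = 𝟙 _ := Sigma.hom_ext _ _ fun n => by simp [e, e', K']
  obtain ⟨s, hs⟩ := hC _ K' (b ≫ e)
  refine ⟨(s.sup ULift.down) + 1, ?_⟩
  let T : Finset ℕ := Finset.range ((s.sup ULift.down) + 1)
  let q : (∐ K) ⟶ ∐ K := ∑ j ∈ T, Sigma.π K j ≫ Sigma.ι K j
  have hq : ∀ l ∈ T, Sigma.ι K l ≫ q = Sigma.ι K l := by
    intro l hl
    rw [Preadditive.comp_sum, Finset.sum_eq_single l]
    · rw [← Category.assoc, Sigma.ι_π_eq_id, Category.id_comp]
    · intro k _ hk
      rw [← Category.assoc, Sigma.ι_π_of_ne K (Ne.symm hk), zero_comp]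
    · exact fun h => absurd hl h
  have hb : b = (b ≫ e) ≫ supp K' s ≫ e' := by
    rw [← Category.assoc, hs, Category.assoc, he, Category.comp_id]
  have hsupp : (supp K' s ≫ e') ≫ q = supp K' s ≫ e' := by
    refine Sigma.hom_ext _ _ fun j => ?_
    rw [← Category.assoc, ← Category.assoc, ι_supp]
    split_ifs with h
    · rw [show Sigma.ι K' j ≫ e' = Sigma.ι K j.down by simp [e', K'],
        hq _ (Finset.mem_range.2 (Nat.lt_succ_of_le (Finset.le_sup (f := ULift.down) h)))]
    · simp
  calc b = b ≫ q := by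
        conv_rhs => rw [hb]
        rw [Category.assoc, hsupp]
        exact hb
    _ = _ := by
        rw [Preadditive.comp_sum]
        simp only [Category.assoc]
        rfl

/-- Maps from a compact object to a homotopy colimit factor through some stage. -/
theorem exists_factor_hocolim {C : D} (hC : HasFiniteSupport C) {K : ℕ → D}
    {f : ∀ n, K n ⟶ K (n + 1)} {L : D} {i : ∀ n, K n ⟶ L} (hL : DerLim.IsHocolim K f L i)
    (φ : C ⟶ L) : ∃ (n : ℕ) (ψ : C ⟶ K n), ψ ≫ i n = φ := by
  classical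
  have hcomp := isHocolim_comp hL
  obtain ⟨c, hT⟩ := hL
  -- injectivity of `1 - shift` on maps out of compact objects
  have hinj : ∀ (m : ℤ) (β : C⟦m⟧ ⟶ ∐ K), β ≫ (𝟙 _ - DerLim.shiftMap K f) = 0 → β = 0 := by
    intro m β hβ
    rw [Preadditive.comp_sub, Category.comp_id, sub_eq_zero] at hβ
    obtain ⟨N, hN⟩ := exists_sum_ι_of_hasFiniteSupport (hasFiniteSupport_shift hC m) K β
    have hz : ∀ j, N ≤ j → β ≫ Sigma.π K j = 0 := by
      intro j hj
      rw [hN, Preadditive.sum_comp]
      refine Finset.sum_eq_zero fun l hl => ?_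
      rw [Category.assoc, Sigma.ι_π_of_ne K (by have := Finset.mem_range.1 hl; omega), comp_zero]
    have hsh : ∀ j, β ≫ Sigma.π K j ≫ f j = β ≫ Sigma.π K (j + 1) := by
      intro j
      conv_rhs => rw [hβ]
      rw [Category.assoc]
      congr 1
      refine Sigma.hom_ext _ _ fun l => ?_
      rw [← Category.assoc, ← Category.assoc (Sigma.ι K l) (DerLim.shiftMap K f), ι_shiftMap,
        Category.assoc]
      by_cases h : l = j
      · subst h
        rw [Category.assoc, Sigma.ι_π_eq_id, Category.comp_id, ← Category.assoc,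
          Sigma.ι_π_eq_id, Category.id_comp]
      · rw [Category.assoc, Sigma.ι_π_of_ne K (by omega : l + 1 ≠ j + 1), comp_zero,
          ← Category.assoc, Sigma.ι_π_of_ne K h, zero_comp]
    have h0 : β ≫ Sigma.π K 0 = 0 := by
      conv_lhs => rw [hβ]
      rw [Category.assoc]
      convert comp_zero (f := β)
      refine Sigma.hom_ext _ _ fun l => ?_
      rw [← Category.assoc, ι_shiftMap, Category.assoc, Sigma.ι_π_of_ne K (by omega), comp_zero,
        comp_zero]
    have : ∀ j, β ≫ Sigma.π K j = 0 := by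
      intro j
      induction j with
      | zero => exact h0
      | succ l ih => rw [← hsh, ← Category.assoc, ih, zero_comp]
    rw [hN]
    exact Finset.sum_eq_zero fun l _ => by rw [this, zero_comp]
  have hφc : φ ≫ c = 0 := by
    let u := (shiftFunctorCompIsoId D (1 : ℤ) (-1) (by omega)).hom.app (∐ K)
    have hz : ((φ ≫ c)⟦(-1 : ℤ)⟧' ≫ u) ≫ (𝟙 _ - DerLim.shiftMap K f) = 0 := by
      have := (shiftFunctorCompIsoId D (1 : ℤ) (-1) (by omega)).hom.naturality
        (𝟙 _ - DerLim.shiftMap K f)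
      dsimp at this
      rw [Category.assoc, ← this, ← Functor.map_comp_assoc, Category.assoc,
        show c ≫ (𝟙 _ - DerLim.shiftMap K f)⟦(1 : ℤ)⟧' = 0 from comp_distTriang_mor_zero₃₁ _ hT,
        comp_zero, Functor.map_zero, zero_comp]
    have h1 := hinj (-1) _ hz
    rw [← zero_comp (f := u), cancel_mono] at h1
    exact (shiftFunctor D (-1 : ℤ)).map_injective (by rw [h1, Functor.map_zero])
  obtain ⟨β, rfl⟩ : ∃ β : C ⟶ ∐ K, φ = β ≫ Sigma.desc i := Triangle.coyoneda_exact₃ _ hT φ hφc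
  obtain ⟨N, hN⟩ := exists_sum_ι_of_hasFiniteSupport hC K β
  have htr : ∀ m j, j ≤ m → ∃ t : K j ⟶ K m, t ≫ i m = i j := by
    intro m j hj
    induction m, hj using Nat.le_induction with
    | base => exact ⟨𝟙 _, Category.id_comp _⟩
    | succ m _ ih =>
      obtain ⟨t, ht⟩ := ih
      exact ⟨t ≫ f m, by rw [Category.assoc, hcomp, ht]⟩
  refine ⟨N, ∑ j ∈ (Finset.range N).attach,
    (β ≫ Sigma.π K j.1) ≫ (htr N j.1 (Finset.mem_range.1 j.2).le).choose, ?_⟩
  conv_rhs => rw [hN, Preadditive.sum_comp, ← Finset.sum_attach]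
  rw [Preadditive.sum_comp]
  refine Finset.sum_congr rfl fun j _ => ?_
  rw [Category.assoc, (htr N j.1 (Finset.mem_range.1 j.2).le).choose_spec, Category.assoc _ _ (Sigma.desc i),
    Sigma.ι_desc]

end Hocolim

/-- The objects receiving no maps into the shifts of `K` from them form a retract closed
triangulated subcategory containing the envelope. -/
theorem eq_zero_of_triangEnvelope [IsTriangulated D] (P : ObjectProperty D) (K : D)
    (h : ∀ Y, P Y → ∀ (n : ℤ) (f : Y ⟶ K⟦n⟧), f = 0) {X : D} (hX : P.triangEnvelope X) (n : ℤ)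
    (f : X ⟶ K⟦n⟧) : f = 0 := by
  let Q : ObjectProperty D := fun Y => ∃ n : ℤ, Nonempty (Y ≅ K⟦n⟧)
  have : Q.IsStableUnderShift ℤ :=
    ⟨fun a => ⟨fun Y ⟨m, ⟨e⟩⟩ => ⟨m + a,
      ⟨(shiftFunctor D a).mapIso e ≪≫ ((shiftFunctorAdd D m a).app K).symm⟩⟩⟩⟩
  have : Q.leftOrthogonal.IsStableUnderRetracts :=
    ⟨fun {X Y} r hY Z g hZ => by
      rw [← Category.id_comp g, ← r.retract, Category.assoc, hY (r.r ≫ g) hZ, comp_zero]⟩
  exact (P.triangEnvelope_le_iff (Q := Q.leftOrthogonal)).2
    (fun Y hY Z g ⟨m, ⟨e⟩⟩ => by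
      rw [← cancel_mono e.hom, zero_comp]
      exact h Y hY m _) X hX f ⟨n, ⟨Iso.refl _⟩⟩

end GrothLib.TriCat
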