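import Groth.Agent.Lib.TriCat.Brown
import Mathlib.CategoryTheory.Preadditive.Yoneda.Limits
import Mathlib.CategoryTheory.Triangulated.Yoneda

/-! # Localizing classes containing perfect generators

A class of objects closed under sums and cones containing a perfect shift closed family maps onto
every object by a map which is bijective on the family. -/

universe v u

open CategoryTheory CategoryTheory.Limits CategoryTheory.Pretriangulated Opposite

namespace GrothLib.TriCat

variable {D : Type u} [Category.{v} D] [Preadditive D] [HasZeroObject D] [HasShift D ℤ]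
  [∀ n : ℤ, (shiftFunctor D n).Additive] [Pretriangulated D]
  [HasCoproducts.{v} D] [HasColimitsOfShape (Discrete ℕ) D] {ι : Type v} {E : ι → D}

theorem exists_approximation_bijective (hs : IsShiftClosedFamily E) (hperf : IsPerfectFamily E)
    (P : D → Prop) (hiso : ∀ {A B : D}, (A ≅ B) → P A → P B)
    (hE : ∀ k, P (E k)) (hsum : ∀ (J : Type v) (Z : J → D), (∀ j, P (Z j)) → P (∐ Z))
    (hcone : ∀ T ∈ distTriang D, P T.obj₁ → P T.obj₂ → P T.obj₃) (X : D) :
    ∃ (L : D) (φ : L ⟶ X), P L ∧ ∀ k, Function.Bijective (fun a : E k ⟶ L => a ≫ φ) := by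
  let H : Dᵒᵖ ⥤ AddCommGrpCat.{v} := preadditiveYoneda.obj X
  have : ∀ (κ : Type v), PreservesLimitsOfShape (Discrete κ) H := fun κ =>
    (inferInstance : PreservesLimitsOfShape (Discrete κ) (preadditiveYoneda.obj X))
  have := preservesLimitsOfShape_nat H
  let W : (Σ k, (E k ⟶ X)) → D := fun p => E p.1
  let x₀ : H.obj (op (∐ W)) := (Sigma.desc fun p : Σ k, (E k ⟶ X) => p.2)
  obtain ⟨K, f, x, e, he, hx, hkill, hT⟩ := exists_killing_sequence (E := E) (H := H) (∐ W) x₀
  have hK : ∀ n, P (K n) := by
    intro n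
    induction n with
    | zero => exact hiso e (hsum _ W fun p => hE _)
    | succ n ih =>
      obtain ⟨κ, a, y, z, hyz⟩ := hT n
      exact hcone _ hyz (hsum _ _ fun j => hE _) ih
  obtain ⟨L, i, hL⟩ := exists_isHocolim K f
  obtain ⟨t, ht⟩ := exists_res_hocolim (A := H) hL x hx
  refine ⟨L, t, ?_, bijective_res_hocolim hs hperf x hx (fun k y => ?_) hkill hL t ht⟩
  · obtain ⟨c, hc⟩ := hL
    have hsumK : P (∐ K) := by
      let K' : ULift.{v} ℕ → D := fun n => K n.down
      let w : (∐ K') ≅ ∐ K :=
        { hom := Sigma.desc fun n => Sigma.ι K n.down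
          inv := Sigma.desc fun n => Sigma.ι K' ⟨n⟩
          hom_inv_id := Sigma.hom_ext _ _ fun n => by simp
          inv_hom_id := Sigma.hom_ext _ _ fun n => by simp [K'] }
      exact hiso w (hsum _ K' fun n => hK n.down)
    exact hcone _ hc hsumK hsumK
  · refine ⟨Sigma.ι W ⟨k, y⟩ ≫ e.hom, ?_⟩
    rw [res_comp, he]
    exact Sigma.ι_desc _ _

end GrothLib.TriCat
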