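import Mathlib.CategoryTheory.Triangulated.Yoneda

set_option autoImplicit false
universe v u
open CategoryTheory CategoryTheory.Limits CategoryTheory.Pretriangulated

namespace GrothLib.TriCat

variable {D : Type u} [Category.{v} D] [Preadditive D] [HasShift D ℤ]
  [∀ n : ℤ, (shiftFunctor D n).Additive]

/-- All morphisms `A ⟶ B` are zero. -/
def HomZero (A B : D) : Prop := ∀ f : A ⟶ B, f = 0

lemma HomZero.of_iso {A A' B B' : D} (h : HomZero A B) (e : A ≅ A') (e' : B ≅ B') :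
    HomZero A' B' := fun f => by
  have := h (e.hom ≫ f ≫ e'.inv)
  rw [← cancel_epi e.hom, ← cancel_mono e'.inv, Category.assoc, this, comp_zero, zero_comp]

lemma homZero_shift_iff {A B : D} (n : ℤ) : HomZero (A⟦n⟧) (B⟦n⟧) ↔ HomZero A B :=
  ⟨fun h f => (shiftFunctor D n).map_injective ((h _).trans ((shiftFunctor D n).map_zero _ _).symm),
    fun h f => by
      obtain ⟨g, rfl⟩ := (shiftFunctor D n).map_surjective f
      rw [h g, Functor.map_zero]⟩

lemma homZero_shift_left {A B : D} {a b c : ℤ} (hc : a + b = c) :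
    HomZero (A⟦c⟧) (B⟦b⟧) ↔ HomZero (A⟦a⟧) B :=
  Iff.trans
    ⟨fun h => h.of_iso ((shiftFunctorAdd' D a b c hc).app A) (Iso.refl _),
      fun h => h.of_iso ((shiftFunctorAdd' D a b c hc).app A).symm (Iso.refl _)⟩
    (homZero_shift_iff b)

lemma homZero_shift_neg_one {A B : D} (a a' : ℤ) (h : a' = a + 1) :
    HomZero (A⟦a⟧) (B⟦(-1 : ℤ)⟧) ↔ HomZero (A⟦a'⟧) B :=
  homZero_shift_left (by omega)

variable [HasZeroObject D] [Pretriangulated D]

/-- In a distinguished triangle `Y ⟶ X ⟶ Z ⟶ Y⟦1⟧`, a map to `Y` killed in `X` vanishes once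
every map to `Z⟦-1⟧` vanishes. -/
lemma eq_zero_of_homZero_shift {T : Triangle D} (hT : T ∈ distTriang D) {A : D}
    (h : HomZero A (T.obj₃⟦(-1 : ℤ)⟧)) (ψ : A ⟶ T.obj₁) (hψ : ψ ≫ T.mor₁ = 0) : ψ = 0 := by
  obtain ⟨g, hg⟩ := Triangle.coyoneda_exact₂ _ (inv_rot_of_distTriang _ hT) ψ hψ
  rw [hg, h g]
  exact zero_comp

/-- `Hom(A, X) = 0` and `Hom(A, Z⟦-1⟧) = 0` imply `Hom(A, Y) = 0`. -/
lemma homZero_obj₁ {T : Triangle D} (hT : T ∈ distTriang D) {A : D}
    (h₂ : HomZero A T.obj₂) (h₃ : HomZero A (T.obj₃⟦(-1 : ℤ)⟧)) : HomZero A T.obj₁ :=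
  fun ψ => eq_zero_of_homZero_shift hT h₃ ψ (h₂ _)

end GrothLib.TriCat
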