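import Groth.Agent.Lib.TriCat.Coproduct
import Groth.Agent.Lib.TriCat.Hocolim
import Mathlib.CategoryTheory.Idempotents.Basic
import Mathlib.CategoryTheory.Triangulated.Opposite.Pretriangulated
import Mathlib.CategoryTheory.Limits.Opposites

/-! # Idempotent completeness of categories with countable coproducts -/

universe v u

open CategoryTheory CategoryTheory.Limits CategoryTheory.Pretriangulated

namespace GrothLib.TriCat

variable {D : Type u} [Category.{v} D] [Preadditive D] [HasZeroObject D] [HasShift D ℤ]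
  [∀ n : ℤ, (shiftFunctor D n).Additive] [Pretriangulated D]

/-- The telescope on an idempotent is surjective on `Hom(-, W)`: explicit solution. -/
theorem exists_sol_idem {X W : D} (E : X ⟶ X) (hE : E ≫ E = E) (a : ℕ → (X ⟶ W)) :
    ∃ b : ℕ → (X ⟶ W), ∀ n, b n - E ≫ b (n + 1) = a n := by
  refine ⟨fun n => a n - E ≫ a n - ∑ k ∈ Finset.range n, E ≫ a k, fun n => ?_⟩
  simp only [Finset.sum_range_succ, Preadditive.comp_sub, Preadditive.comp_add, Preadditive.comp_sum,
    ← Category.assoc, hE]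
  abel

theorem isIdempotentComplete_of_coproducts [HasColimitsOfShape (Discrete ℕ) D] :
    IsIdempotentComplete D := by
  refine ⟨fun X e he => ?_⟩
  let K : ℕ → D := fun _ => X
  let f : ∀ n, K n ⟶ K (n + 1) := fun _ => e
  obtain ⟨Y, i, hY⟩ := exists_isHocolim K f
  have hcomp : ∀ n, e ≫ i (n + 1) = i n := isHocolim_comp hY
  have hei : ∀ n, e ≫ i n = i n := fun n => by
    conv_lhs => rw [← hcomp n, ← Category.assoc, he, hcomp n]
  have hi0 : ∀ n, i n = i 0 := fun n => by
    induction n with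
    | zero => rfl
    | succ m ih => rw [← ih, ← hcomp m, hei]
  obtain ⟨c, hT⟩ := hY
  have hinj : ∀ {W : D} (a : Y ⟶ W), (∀ n, i n ≫ a = 0) → a = 0 := by
    intro W a ha
    obtain ⟨z, hz⟩ : ∃ z : (∐ K)⟦(1 : ℤ)⟧ ⟶ W, a = c ≫ z :=
      Triangle.yoneda_exact₃ _ hT a (by
        change Sigma.desc i ≫ a = 0
        refine Sigma.hom_ext _ _ fun n => ?_
        rw [Sigma.ι_desc_assoc, comp_zero, ha])
    obtain ⟨b, hb⟩ := exists_sol_idem (e⟦(1 : ℤ)⟧') (by rw [← Functor.map_comp, he])
      (fun n => (Sigma.ι K n)⟦(1 : ℤ)⟧' ≫ z)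
    obtain ⟨z', hz'⟩ := shift_coprod_desc K 1 b
    have : z = (𝟙 _ - DerLim.shiftMap K f)⟦(1 : ℤ)⟧' ≫ z' := by
      refine shift_coprod_hom_ext _ _ fun n => ?_
      rw [← hb n, ← Category.assoc, ← Functor.map_comp, Preadditive.comp_sub, Category.comp_id,
        ι_shiftMap, Functor.map_sub, Functor.map_comp, Preadditive.sub_comp, Category.assoc, hz',
        hz']
    have hc : c ≫ (𝟙 _ - DerLim.shiftMap K f)⟦(1 : ℤ)⟧' = 0 := comp_distTriang_mor_zero₃₁ _ hT
    rw [hz, this, reassoc_of% hc, zero_comp]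
  obtain ⟨g, hg⟩ : ∃ g : Y ⟶ X, Sigma.desc (f := K) (fun _ : ℕ => e) = Sigma.desc i ≫ g :=
    Triangle.yoneda_exact₂ _ hT _ (by
      change (𝟙 _ - DerLim.shiftMap K f) ≫ Sigma.desc (f := K) (fun _ : ℕ => e) = 0
      refine Sigma.hom_ext _ _ fun n => ?_
      erw [comp_zero, Preadditive.sub_comp, Category.id_comp, Preadditive.comp_sub,
        ← Category.assoc, ι_shiftMap, Category.assoc, Sigma.ι_desc, Sigma.ι_desc]
      exact sub_eq_zero.2 he.symm)
  have hig : ∀ n, i n ≫ g = e := fun n => by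
    have := congrArg (Sigma.ι K n ≫ ·) hg
    simpa using this.symm
  refine ⟨Y, g, i 0, ?_, hig 0⟩
  rw [← sub_eq_zero]
  refine hinj _ fun n => ?_
  rw [Preadditive.comp_sub, reassoc_of% (hig n), Category.comp_id, hei, ← hi0 n, sub_self]

open CategoryTheory.Pretriangulated.Opposite in
theorem isIdempotentComplete_of_products [HasLimitsOfShape (Discrete ℕ) D] :
    IsIdempotentComplete D := by
  rw [← Idempotents.isIdempotentComplete_iff_opposite (C := D)]
  have : HasColimitsOfShape (Discrete ℕ) Dᵒᵖ := by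
    have : HasLimitsOfShape (Discrete ℕ)ᵒᵖ D :=
      hasLimitsOfShape_of_equivalence (Discrete.opposite ℕ).symm
    exact hasColimitsOfShape_op_of_hasLimitsOfShape
  exact isIdempotentComplete_of_coproducts

end GrothLib.TriCat
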