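import Mathlib.CategoryTheory.Idempotents.Basic
import Mathlib.CategoryTheory.Triangulated.TStructure.TruncLTGE

/-! # Idempotents in triangulated categories with a bounded t-structure -/

set_option autoImplicit false
universe v u
open CategoryTheory CategoryTheory.Limits CategoryTheory.Pretriangulated CategoryTheory.Triangulated

namespace GrothLib.TriCat

variable {C : Type u} [Category.{v} C] [Preadditive C] [HasZeroObject C] [HasShift C ℤ]
  [∀ n : ℤ, (shiftFunctor C n).Additive] [Pretriangulated C]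

/-- An endomorphism `e` splits. -/
def Splits {X : C} (e : X ⟶ X) : Prop :=
  ∃ (Y : C) (i : Y ⟶ X) (p : X ⟶ Y), i ≫ p = 𝟙 Y ∧ p ≫ i = e

/-- If `1 - e` splits, then `e` splits. -/
lemma splits_of_splits_one_sub {X : C} (e : X ⟶ X) (h : Splits (𝟙 X - e)) : Splits e := by
  obtain ⟨W, i, q, hiq, hqi⟩ := h
  obtain ⟨Z, π, δ, hT⟩ := distinguished_cocone_triangle i
  have hie : i ≫ e = 0 := by
    have h1 : i ≫ (𝟙 X - e) = i := by rw [← hqi, ← Category.assoc, hiq, Category.id_comp]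
    rw [Preadditive.comp_sub, Category.comp_id, sub_eq_self] at h1
    exact h1
  have hiπ : i ≫ π = 0 := comp_distTriang_mor_zero₁₂ _ hT
  obtain ⟨e', he'⟩ : ∃ e' : Z ⟶ X, e = π ≫ e' := Triangle.yoneda_exact₂ _ hT e hie
  have hepi : Epi π := (Triangle.epi₂ _ hT (by
    have : Mono i := mono_of_mono_fac hiq
    exact (Triangle.mor₃_eq_zero_iff_mono₁ _ hT).2 this) : _)
  have heπ : e ≫ π = π := by
    have h2 : (𝟙 X - e) ≫ π = 0 := by rw [← hqi, Category.assoc, hiπ, comp_zero]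
    rw [Preadditive.sub_comp, Category.id_comp, sub_eq_zero] at h2
    exact h2.symm
  refine ⟨Z, e', π, ?_, he'.symm⟩
  rw [← cancel_epi π, ← Category.assoc, ← he', heπ, Category.comp_id]

/-- An idempotent on the middle term of an endomorphism of a distinguished triangle splits when
the outer ones do. -/
lemma splits_mid (T : Triangle C) (hT : T ∈ distTriang C) (φ : T ⟶ T)
    (h₂ : φ.hom₂ ≫ φ.hom₂ = φ.hom₂) (h₁ : Splits φ.hom₁) (h₃ : Splits φ.hom₃) :
    Splits φ.hom₂ := by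
  obtain ⟨X', i₁, p₁, hi₁, hp₁⟩ := h₁
  obtain ⟨Z', i₃, p₃, hi₃, hp₃⟩ := h₃
  have hc : φ.hom₃ ≫ T.mor₃ = T.mor₃ ≫ φ.hom₁⟦(1 : ℤ)⟧' := φ.comm₃.symm
  let h' : Z' ⟶ X'⟦(1 : ℤ)⟧ := i₃ ≫ T.mor₃ ≫ p₁⟦(1 : ℤ)⟧'
  obtain ⟨Y', f', g', hT'⟩ := distinguished_cocone_triangle₂ h'
  let T' := Triangle.mk f' g' h'
  have hu3 : h' ≫ i₁⟦(1 : ℤ)⟧' = i₃ ≫ T.mor₃ := by
    simp only [h', Category.assoc]
    rw [← Functor.map_comp, hp₁, ← hc, ← hp₃, Category.assoc, reassoc_of% hi₃]
  obtain ⟨u, hu1, hu2⟩ : ∃ u : Y' ⟶ T.obj₂, f' ≫ u = i₁ ≫ T.mor₁ ∧ g' ≫ i₃ = u ≫ T.mor₂ :=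
    complete_distinguished_triangle_morphism₂ T' T hT' hT i₁ i₃ hu3
  have hv3 : T.mor₃ ≫ p₁⟦(1 : ℤ)⟧' = p₃ ≫ h' := by
    simp only [h']
    rw [reassoc_of% hp₃, reassoc_of% hc, ← Functor.map_comp, ← hp₁, Category.assoc, hi₁,
      Category.comp_id]
  obtain ⟨v, hv1, hv2⟩ : ∃ v : T.obj₂ ⟶ Y', T.mor₁ ≫ v = p₁ ≫ f' ∧ T.mor₂ ≫ p₃ = v ≫ g' :=
    complete_distinguished_triangle_morphism₂ T T' hT hT' p₁ p₃ hv3
  let ψ : T' ⟶ T' := Triangle.homMk _ _ (𝟙 X') (u ≫ v) (𝟙 Z')
    (by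
      change f' ≫ u ≫ v = 𝟙 X' ≫ f'
      rw [reassoc_of% hu1, hv1, ← Category.assoc, hi₁])
    (by
      change g' ≫ 𝟙 Z' = (u ≫ v) ≫ g'
      rw [Category.assoc, ← hv2, ← Category.assoc, ← hu2, Category.assoc, hi₃])
    (by
      change h' ≫ (𝟙 X')⟦(1 : ℤ)⟧' = 𝟙 Z' ≫ h'
      rw [CategoryTheory.Functor.map_id, Category.comp_id, Category.id_comp])
  have hw : IsIso (u ≫ v) :=
    isIso₂_of_isIso₁₃ ψ hT' hT' (inferInstanceAs (IsIso (𝟙 X'))) (inferInstanceAs (IsIso (𝟙 Z')))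
  let v' := v ≫ inv (u ≫ v)
  have huv : u ≫ v' = 𝟙 _ := by simp only [v', ← Category.assoc, IsIso.hom_inv_id]
  have hwf : f' ≫ u ≫ v = f' := by
    have := ψ.comm₁
    exact this.trans (Category.id_comp _)
  have hv1' : T.mor₁ ≫ v' = p₁ ≫ f' := by
    have : f' ≫ inv (u ≫ v) = f' := by rw [IsIso.comp_inv_eq, hwf]
    simp only [v', ← Category.assoc]
    erw [hv1, Category.assoc, this]
  have hwg : (u ≫ v) ≫ g' = g' := by
    have := ψ.comm₂
    exact this.symm.trans (Category.comp_id _)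
  have hv2' : v' ≫ g' = T.mor₂ ≫ p₃ := by
    have : inv (u ≫ v) ≫ g' = g' := by rw [IsIso.inv_comp_eq, hwg]
    simp only [v', Category.assoc, this]
    exact hv2.symm
  let p' := v' ≫ u
  have hp' : p' ≫ p' = p' := by simp only [p', Category.assoc, reassoc_of% huv]
  let d := φ.hom₂ - p'
  have hfd : T.mor₁ ≫ d = 0 := by
    simp only [d, p', Preadditive.comp_sub, reassoc_of% hv1']
    rw [φ.comm₁, hu1, ← Category.assoc, hp₁, sub_self]
  have hdg : d ≫ T.mor₂ = 0 := by
    simp only [d, p', Preadditive.sub_comp, Category.assoc]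
    rw [← hu2, reassoc_of% hv2', hp₃, φ.comm₂, sub_self]
  obtain ⟨d', hd'⟩ := Triangle.coyoneda_exact₂ _ hT d hdg
  have hdd : d ≫ d = 0 := by
    conv_lhs => arg 1; rw [hd']
    rw [Category.assoc, hfd, comp_zero]
  -- `e` and `p'` are idempotents differing by a square zero element, hence conjugate
  let E : End T.obj₂ := φ.hom₂
  let P : End T.obj₂ := p'
  have hE : E * E = E := h₂
  have hP : P * P = P := hp'
  have hD : (E - P) * (E - P) = 0 := hdd
  let U : End T.obj₂ := E * P + (1 - E) * (1 - P)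
  let V : End T.obj₂ := P * E + (1 - P) * (1 - E)
  have hE2 : ∀ x, E * (E * x) = E * x := fun x => by rw [← mul_assoc, hE]
  have hP2 : ∀ x, P * (P * x) = P * x := fun x => by rw [← mul_assoc, hP]
  have hS : E * P + P * E = E + P := by
    simp only [mul_sub, sub_mul, hE, hP] at hD
    rw [← sub_eq_zero] at *
    rw [← neg_eq_zero]
    convert hD using 1
    abel
  have hUV : U * V = 1 := by
    have h1 : U * V = 1 + (E * P + P * E) - (E + P) := by
      simp only [U, V, mul_add, add_mul, mul_sub, sub_mul, one_mul, mul_one, mul_assoc, hE, hP, hE2, hP2]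
      abel
    rw [h1, hS, add_sub_cancel_right]
  have hVU : V * U = 1 := by
    have h1 : V * U = 1 + (E * P + P * E) - (E + P) := by
      simp only [U, V, mul_add, add_mul, mul_sub, sub_mul, one_mul, mul_one, mul_assoc, hE, hP, hE2, hP2]
      abel
    rw [h1, hS, add_sub_cancel_right]
  have hEU : E * U = U * P := by
    simp only [U, mul_add, add_mul, mul_sub, sub_mul, one_mul, mul_one, mul_assoc, hE, hP, hE2, hP2]
    abel
  have hE' : E = U * P * V := by rw [← hEU, mul_assoc, hUV, mul_one]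
  let U' : T.obj₂ ⟶ T.obj₂ := U
  let V' : T.obj₂ ⟶ T.obj₂ := V
  have hUV' : V' ≫ U' = 𝟙 _ := hUV
  have hVU' : U' ≫ V' = 𝟙 _ := hVU
  refine ⟨Y', u ≫ U', V' ≫ v', ?_, ?_⟩
  · rw [Category.assoc, reassoc_of% hVU']
    exact huv
  · rw [Category.assoc, ← Category.assoc v']
    exact hE'.symm

/-- An idempotent of an object concentrated in a single degree splits. -/
lemma splits_of_pure (t : TStructure C) [IsTriangulated C] {X : C} (a : ℤ) [t.IsLE X a]
    [t.IsGE X a] (e : X ⟶ X) (he : e ≫ e = e) : Splits e := by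
  apply splits_of_splits_one_sub
  obtain ⟨P, p, δ, hT⟩ := distinguished_cocone_triangle₁ e
  let q := 𝟙 X - e
  have : t.IsGE P a := by
    refine t.isGE₂ _ (inv_rot_of_distTriang _ hT) a ?_ (inferInstanceAs (t.IsGE X a))
    have := t.isGE_shift X a (-1) (a + 1) (by omega)
    exact t.isGE_of_ge (X⟦(-1 : ℤ)⟧) a (a + 1) (by omega)
  let K := (t.truncLT (a + 1)).obj P
  let i : K ⟶ X := (t.truncLTι (a + 1)).app P ≫ p
  have hie : i ≫ e = 0 := by
    have := comp_distTriang_mor_zero₁₂ _ hT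
    simp only [i, Category.assoc]
    exact (congrArg (_ ≫ ·) this).trans comp_zero
  have hqe : q ≫ e = 0 := by simp [q, Preadditive.sub_comp, he]
  obtain ⟨g, hg⟩ : ∃ g : X ⟶ P, q = g ≫ p := Triangle.coyoneda_exact₂ _ hT q hqe
  let pr : X ⟶ K := t.liftTruncLT g a (a + 1) rfl
  have hpr : pr ≫ i = q := by simp [pr, i, hg, K]
  have hiq : i ≫ q = i := by simp [q, Preadditive.comp_sub, hie]
  refine ⟨K, i, pr, ?_, hpr⟩
  rw [← sub_eq_zero]
  refine t.to_truncLT_obj_ext ?_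
  rw [zero_comp]
  set w := (i ≫ pr - 𝟙 K) ≫ (t.truncLTι (a + 1)).app P with hw_def
  have hwp : w ≫ p = 0 := by
    rw [hw_def, Category.assoc]
    change (i ≫ pr - 𝟙 K) ≫ i = 0
    rw [Preadditive.sub_comp, Category.assoc, hpr, hiq, Category.id_comp, sub_self]
  obtain ⟨z, hz⟩ := Triangle.coyoneda_exact₂ _ (inv_rot_of_distTriang _ hT) w hwp
  have hX' : t.IsGE (X⟦(-1 : ℤ)⟧) (a + 1) := t.isGE_shift X a (-1) (a + 1) (by omega)
  have hKle : t.IsLE K a := inferInstanceAs (t.IsLE ((t.truncLT (a + 1)).obj P) a)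
  rw [hz, show z = 0 from t.zero_of_isLE_of_isGE z a (a + 1) (by omega) hKle hX']
  exact zero_comp

/-- Idempotents split in a category with a bounded t-structure. -/
theorem isIdempotentComplete_of_bounded (t : TStructure C) [IsTriangulated C]
    (hb : ∀ X : C, t.bounded X) : IsIdempotentComplete C := by
  suffices ∀ (k : ℕ) (X : C) (a : ℤ), t.IsGE X a → t.IsLE X (a + k) →
      ∀ e : X ⟶ X, e ≫ e = e → Splits e from
    ⟨fun X e he => by
      obtain ⟨⟨a, ha⟩, ⟨b, hb'⟩⟩ := hb X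
      exact this (b - a).toNat X a ha (t.isLE_of_le X b _ (by omega)) e he⟩
  intro k
  induction k with
  | zero =>
    intro X a ha hle e he
    have : t.IsLE X a := by simpa using hle
    exact splits_of_pure t a e he
  | succ k ih =>
    intro X a ha hle e he
    let b := a + (k + 1 : ℕ)
    have : t.IsLE X b := hle
    have hT := t.triangleLTGE_distinguished b X
    refine splits_mid _ hT ((t.triangleLTGE b).map e) ?_ ?_ ?_
    · exact he
    · exact ih ((t.truncLT b).obj X) a inferInstance (t.isLE_of_le _ (b - 1) _ (by omega))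
        ((t.truncLT b).map e) (((t.truncLT b).map_comp e e).symm.trans (congrArg _ he))
    · exact splits_of_pure (X := (t.truncGE b).obj X) t b ((t.truncGE b).map e)
        (((t.truncGE b).map_comp e e).symm.trans (congrArg _ he))

end GrothLib.TriCat
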