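import Mathlib.CategoryTheory.Localization.Triangulated
import Mathlib.CategoryTheory.Triangulated.Subcategory

/-! # Multiplicative systems compatible with a triangulation -/

universe v' u' v u

open CategoryTheory CategoryTheory.Limits CategoryTheory.Pretriangulated
open scoped ZeroObject

namespace GrothLib.TriCat

variable {D : Type u} [Category.{v} D] [Preadditive D] [HasZeroObject D] [HasShift D ℤ]
  [∀ n : ℤ, (shiftFunctor D n).Additive] [Pretriangulated D]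
  (S : MorphismProperty D) [S.IsCompatibleWithTriangulation]

theorem mem_of_isIso [S.ContainsIdentities] {X Y : D} (f : X ⟶ Y) [IsIso f] : S f := by
  have hT : Triangle.mk (0 : (0 : D) ⟶ X) f (0 : Y ⟶ _) ∈ distTriang D :=
    isomorphic_distinguished _ (contractible_distinguished₁ X) _
      (Triangle.isoMk _ _ (Iso.refl _) (Iso.refl _) (asIso f).symm
        (zero_comp.trans comp_zero.symm) ((IsIso.hom_inv_id f).trans (Category.id_comp _).symm)
        (zero_comp.trans comp_zero.symm))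
  obtain ⟨c, hc, hc₂, -⟩ := MorphismProperty.compatible_with_triangulation (W := S) _ _
    (contractible_distinguished₁ X) hT (𝟙 _) (𝟙 _) (S.id_mem _) (S.id_mem _)
    (zero_comp.trans comp_zero.symm)
  have : c = f := (Category.id_comp c).symm.trans (hc₂.trans (Category.id_comp f))
  rwa [this] at hc

/-- The cone of a member of `S` becomes zero. -/
theorem zero_mem_of_distTriang [S.ContainsIdentities] {T : Triangle D} (hT : T ∈ distTriang D)
    (hf : S T.mor₁) : S (0 : T.obj₃ ⟶ (0 : D)) := by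
  obtain ⟨c, hc, -, -⟩ := MorphismProperty.compatible_with_triangulation (W := S) _ _
    hT (contractible_distinguished T.obj₂) T.mor₁ (𝟙 _) hf (S.id_mem _) rfl
  rw [show c = (0 : T.obj₃ ⟶ (0 : D)) from (isZero_zero D).eq_of_tgt _ _] at hc
  exact hc

/-- Left Ore condition. -/
theorem exists_square [S.IsMultiplicative] {X Y X' : D} (f : X ⟶ Y) (t : X ⟶ X') (ht : S t) :
    ∃ (Y' : D) (f' : X' ⟶ Y') (s' : Y ⟶ Y'), S s' ∧ f ≫ s' = t ≫ f' := by
  obtain ⟨W, g, h, hT⟩ := distinguished_cocone_triangle₁ f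
  obtain ⟨Y', f', k, hT'⟩ := distinguished_cocone_triangle (g ≫ t)
  obtain ⟨c, hc, hc₂, -⟩ := MorphismProperty.compatible_with_triangulation (W := S) _ _
    hT hT' (𝟙 _) t (S.id_mem _) ht (Category.id_comp _).symm
  exact ⟨Y', f', c, hc, hc₂⟩

/-- Right Ore condition. -/
theorem exists_square' [S.IsMultiplicative] {X Y Y' : D} (f : X ⟶ Y) (s : Y' ⟶ Y) (hs : S s) :
    ∃ (X' : D) (f' : X' ⟶ Y') (t' : X' ⟶ X), S t' ∧ t' ≫ f = f' ≫ s := by
  obtain ⟨W, g, h, hT⟩ := distinguished_cocone_triangle f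
  obtain ⟨X', f', k, hT'⟩ := distinguished_cocone_triangle₁ (s ≫ g)
  obtain ⟨c, hc, -, hc₃⟩ := MorphismProperty.compatible_with_triangulation (W := S) _ _
    (rot_of_distTriang _ hT') (rot_of_distTriang _ hT) s (𝟙 _) hs (S.id_mem _) (Category.comp_id _)
  obtain ⟨t', rfl⟩ := (shiftFunctor D (1 : ℤ)).map_surjective c
  refine ⟨X', f', t', (MorphismProperty.IsCompatibleWithShift.iff S t' (1 : ℤ)).1 hc, (shiftFunctor D (1 : ℤ)).map_injective ?_⟩
  simp [Triangle.rotate] at hc₃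
  erw [Preadditive.comp_neg, Preadditive.neg_comp, neg_inj] at hc₃
  rw [Functor.map_comp, Functor.map_comp]
  exact hc₃.symm

section Localization

variable [S.HasLeftCalculusOfFractions] [S.HasRightCalculusOfFractions]
  {E : Type u'} [Category.{v'} E] (Q : D ⥤ E) [Q.IsLocalization S]

include S in
theorem isZero_localization_zero : IsZero (Q.obj (0 : D)) := by
  have := Localization.essSurj Q S
  refine ⟨fun A => ⟨⟨⟨Q.map 0 ≫ (Q.objObjPreimageIso A).hom⟩, fun φ => ?_⟩⟩,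
    fun A => ⟨⟨⟨(Q.objObjPreimageIso A).inv ≫ Q.map 0⟩, fun φ => ?_⟩⟩⟩
  · obtain ⟨ψ, hψ⟩ := Localization.exists_leftFraction Q S (φ ≫ (Q.objObjPreimageIso A).inv)
    have := Localization.inverts Q S _ ψ.hs
    rw [← cancel_mono (Q.objObjPreimageIso A).inv, hψ, ← cancel_mono (Q.map ψ.s),
      MorphismProperty.LeftFraction.map_comp_map_s]
    simp only [Category.assoc, Iso.hom_inv_id_assoc, ← Q.map_comp]
    exact congrArg Q.map ((isZero_zero D).eq_of_src _ _)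
  · obtain ⟨ψ, hψ⟩ := Localization.exists_rightFraction Q S ((Q.objObjPreimageIso A).hom ≫ φ)
    have := Localization.inverts Q S _ ψ.hs
    rw [← cancel_epi (Q.objObjPreimageIso A).hom, hψ, ← cancel_epi (Q.map ψ.s),
      MorphismProperty.RightFraction.map_s_comp_map]
    simp only [Iso.hom_inv_id_assoc, ← Q.map_comp]
    exact congrArg Q.map ((isZero_zero D).eq_of_tgt _ _)

theorem isZero_obj_of_zero_mem {Z Z' : D} (h : S (0 : Z ⟶ Z') ∨ S (0 : Z' ⟶ Z)) :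
    IsZero (Q.obj Z) := by
  have hz := isZero_localization_zero S Q
  have hZ : Q.map (𝟙 Z) = Q.map (0 : Z ⟶ Z) := by
    rcases h with h | h
    · have := Localization.inverts Q S _ h
      rw [← cancel_mono (Q.map (0 : Z ⟶ Z')), ← Q.map_comp, ← Q.map_comp]; simp
    · have := Localization.inverts Q S _ h
      rw [← cancel_epi (Q.map (0 : Z' ⟶ Z)), ← Q.map_comp, ← Q.map_comp]; simp
  rw [← zero_comp (X := Z) (Y := (0 : D)) (f := (0 : (0 : D) ⟶ Z)), Q.map_comp, Q.map_id] at hZ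
  refine ⟨fun A => ⟨⟨⟨Q.map 0 ≫ hz.to_ A⟩, fun φ => ?_⟩⟩,
    fun A => ⟨⟨⟨hz.from_ A ≫ Q.map 0⟩, fun φ => ?_⟩⟩⟩
  · rw [← Category.id_comp φ, hZ, Category.assoc]
    exact congrArg _ (hz.eq_of_src _ _)
  · rw [← Category.comp_id φ, hZ, ← Category.assoc]
    exact congrArg (· ≫ _) (hz.eq_of_tgt _ _)

theorem exists_zero_mem_of_isZero {Z : D} (h : IsZero (Q.obj Z)) :
    (∃ Z' : D, S (0 : Z ⟶ Z')) ∧ ∃ Z' : D, S (0 : Z' ⟶ Z) := by
  have e : Q.map (𝟙 Z) = Q.map 0 := h.eq_of_src _ _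
  obtain ⟨Z₁, s, hs, hs'⟩ := (MorphismProperty.map_eq_iff_postcomp Q S _ _).1 e
  obtain ⟨Z₂, t, ht, ht'⟩ := (MorphismProperty.map_eq_iff_precomp Q S _ _).1 e
  simp only [Category.id_comp, Category.comp_id, zero_comp, comp_zero] at hs' ht'
  subst hs' ht'
  exact ⟨⟨Z₁, hs⟩, Z₂, ht⟩

theorem isZero_of_retract_cone {X Y Z Z' : D} (f : X ⟶ Y) (g : Y ⟶ Z ⊞ Z')
    (h : Z ⊞ Z' ⟶ X⟦(1 : ℤ)⟧) (hT : Triangle.mk f g h ∈ distTriang D) (hf : S f) :
    IsZero (Q.obj Z) := by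
  have hW : IsZero (Q.obj (Z ⊞ Z')) :=
    isZero_obj_of_zero_mem S Q (Or.inl (zero_mem_of_distTriang S hT hf))
  have hr : Q.map (biprod.inl : Z ⟶ Z ⊞ Z') ≫ Q.map biprod.fst = 𝟙 (Q.obj Z) := by
    rw [← Q.map_comp, biprod.inl_fst, Q.map_id]
  refine ⟨fun A => ⟨⟨⟨Q.map (biprod.inl : Z ⟶ Z ⊞ Z') ≫ hW.to_ A⟩, fun φ => ?_⟩⟩,
    fun A => ⟨⟨⟨hW.from_ A ≫ Q.map biprod.fst⟩, fun φ => ?_⟩⟩⟩
  · rw [← Category.id_comp φ, ← hr, Category.assoc]
    exact congrArg _ (hW.eq_of_src _ _)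
  · rw [← Category.comp_id φ, ← hr, ← Category.assoc]
    exact congrArg (· ≫ _) (hW.eq_of_tgt _ _)

theorem exists_cone_of_isZero {Z : D} (hZ : IsZero (Q.obj Z)) :
    ∃ (Z' X Y : D) (f : X ⟶ Y) (g : Y ⟶ Z ⊞ Z') (h : Z ⊞ Z' ⟶ X⟦(1 : ℤ)⟧),
      Triangle.mk f g h ∈ distTriang D ∧ S f := by
  obtain ⟨-, Z', hZ'⟩ := exists_zero_mem_of_isZero S Q hZ
  have hT := inv_rot_of_distTriang _ (binaryBiproductTriangle_distinguished Z (Z'⟦(1 : ℤ)⟧))
  refine ⟨Z'⟦(1 : ℤ)⟧, _, _, _, _, _, hT, ?_⟩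
  have : (binaryBiproductTriangle Z (Z'⟦(1 : ℤ)⟧)).invRotate.mor₁ =
      (shiftShiftNeg Z' (1 : ℤ)).hom ≫ (0 : Z' ⟶ Z) := by
    simp [binaryBiproductTriangle]
    erw [Functor.map_zero]
    simp
    rfl
  change S (binaryBiproductTriangle Z (Z'⟦(1 : ℤ)⟧)).invRotate.mor₁
  rw [this]
  exact S.comp_mem _ _ (mem_of_isIso S _) hZ'

end Localization

end GrothLib.TriCat
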