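import Mathlib.CategoryTheory.Triangulated.Orthogonal
import Mathlib.CategoryTheory.Triangulated.TriangleShift
import Mathlib.CategoryTheory.Shift.Adjunction

/-! # Approximations by triangulated subcategories -/

universe v u

open CategoryTheory CategoryTheory.Limits CategoryTheory.Pretriangulated
open scoped ZeroObject

namespace GrothLib.TriCat

variable {D : Type u} [Category.{v} D] [Preadditive D] [HasZeroObject D] [HasShift D ℤ]
  [∀ n : ℤ, (shiftFunctor D n).Additive] [Pretriangulated D]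

section

variable {T T' : Triangle D} (φ : T ⟶ T')

/-- Five lemma, injectivity. -/
theorem postcomp_hom₂_injective (hT : T ∈ distTriang D) (hT' : T' ∈ distTriang D) (A : D)
    (h₁ : Function.Injective fun u : A ⟶ T.obj₁ => u ≫ φ.hom₁)
    (h₃ : Function.Injective fun u : A ⟶ T.obj₃ => u ≫ φ.hom₃)
    (h₀ : Function.Surjective fun u : A ⟶ T.invRotate.obj₁ =>
      u ≫ ((invRotate D).map φ).hom₁) :
    Function.Injective fun u : A ⟶ T.obj₂ => u ≫ φ.hom₂ := by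
  suffices ∀ u : A ⟶ T.obj₂, u ≫ φ.hom₂ = 0 → u = 0 from fun u v huv =>
    sub_eq_zero.1 (this _ (by rw [Preadditive.sub_comp]; exact sub_eq_zero.2 huv))
  intro u hu
  have h2 : u ≫ T.mor₂ = 0 := h₃ (a₂ := 0) (by
    simp only [Category.assoc, φ.comm₂, reassoc_of% hu, zero_comp])
  obtain ⟨v, rfl⟩ := T.coyoneda_exact₂ hT u h2
  have hv : (v ≫ φ.hom₁) ≫ T'.invRotate.mor₂ = 0 := by
    change (v ≫ φ.hom₁) ≫ T'.mor₁ = 0
    rw [Category.assoc, ← φ.comm₁, ← Category.assoc]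
    exact hu
  obtain ⟨w, hw⟩ := T'.invRotate.coyoneda_exact₂ (inv_rot_of_distTriang _ hT') _ hv
  obtain ⟨w', rfl⟩ := h₀ w
  have : v = w' ≫ T.invRotate.mor₁ := h₁ (by
    change v ≫ φ.hom₁ = (w' ≫ T.invRotate.mor₁) ≫ φ.hom₁
    refine hw.trans ?_
    exact (Category.assoc _ _ _).trans
      ((congrArg (w' ≫ ·) ((invRotate D).map φ).comm₁.symm).trans (Category.assoc _ _ _).symm))
  rw [this]
  refine (Category.assoc _ _ _).trans ?_
  exact (congrArg (w' ≫ ·) (comp_distTriang_mor_zero₁₂ _ (inv_rot_of_distTriang _ hT))).trans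
    comp_zero

/-- Five lemma, surjectivity. -/
theorem postcomp_hom₂_surjective (hT : T ∈ distTriang D) (hT' : T' ∈ distTriang D) (A : D)
    (h₁ : Function.Surjective fun u : A ⟶ T.obj₁ => u ≫ φ.hom₁)
    (h₃ : Function.Surjective fun u : A ⟶ T.obj₃ => u ≫ φ.hom₃)
    (h₄ : Function.Injective fun u : A ⟶ T.obj₁⟦(1 : ℤ)⟧ => u ≫ φ.hom₁⟦(1 : ℤ)⟧') :
    Function.Surjective fun u : A ⟶ T.obj₂ => u ≫ φ.hom₂ := by
  intro y
  obtain ⟨x₃, hx₃⟩ := h₃ (y ≫ T'.mor₂)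
  have : x₃ ≫ T.mor₃ = 0 := h₄ (a₂ := 0) (by
    simp only at hx₃
    simp only [Category.assoc, φ.comm₃, reassoc_of% hx₃, comp_distTriang_mor_zero₂₃ _ hT',
      comp_zero, zero_comp])
  obtain ⟨x, rfl⟩ := T.coyoneda_exact₃ hT x₃ this
  have hy : (y - x ≫ φ.hom₂) ≫ T'.mor₂ = 0 := by
    simp only [Category.assoc, φ.comm₂] at hx₃
    rw [Preadditive.sub_comp, Category.assoc, hx₃, sub_self]
  obtain ⟨z, hz⟩ := T'.coyoneda_exact₂ hT' _ hy
  obtain ⟨z', rfl⟩ := h₁ z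
  refine ⟨x + z' ≫ T.mor₁, ?_⟩
  simp only [Category.assoc] at hz
  simp only [Preadditive.add_comp, Category.assoc, φ.comm₁]
  rw [← hz]
  abel

/-- Five lemma for precomposition, injectivity. -/
theorem precomp_hom₂_injective (hT : T ∈ distTriang D) (hT' : T' ∈ distTriang D) (B : D)
    (h₁ : Function.Injective fun u : T'.obj₁ ⟶ B => φ.hom₁ ≫ u)
    (h₃ : Function.Injective fun u : T'.obj₃ ⟶ B => φ.hom₃ ≫ u)
    (h₄ : Function.Surjective fun u : T'.obj₁⟦(1 : ℤ)⟧ ⟶ B => φ.hom₁⟦(1 : ℤ)⟧' ≫ u) :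
    Function.Injective fun u : T'.obj₂ ⟶ B => φ.hom₂ ≫ u := by
  suffices ∀ u : T'.obj₂ ⟶ B, φ.hom₂ ≫ u = 0 → u = 0 from fun u v huv =>
    sub_eq_zero.1 (this _ (by rw [Preadditive.comp_sub]; exact sub_eq_zero.2 huv))
  intro u hu
  have h2 : T'.mor₁ ≫ u = 0 := h₁ (a₂ := 0) (by
    simp only [← φ.comm₁_assoc, hu, comp_zero])
  obtain ⟨v, rfl⟩ := T'.yoneda_exact₂ hT' u h2
  obtain ⟨w, hw⟩ := T.yoneda_exact₃ hT (φ.hom₃ ≫ v) (by rw [φ.comm₂_assoc]; exact hu)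
  obtain ⟨w', rfl⟩ := h₄ w
  have : v = T'.mor₃ ≫ w' := h₃ (by simp only [hw, φ.comm₃_assoc])
  rw [this, comp_distTriang_mor_zero₂₃_assoc _ hT', zero_comp]

/-- Five lemma for precomposition, surjectivity. -/
theorem precomp_hom₂_surjective (hT : T ∈ distTriang D) (hT' : T' ∈ distTriang D) (B : D)
    (h₁ : Function.Surjective fun u : T'.obj₁ ⟶ B => φ.hom₁ ≫ u)
    (h₃ : Function.Surjective fun u : T'.obj₃ ⟶ B => φ.hom₃ ≫ u)
    (h₀ : Function.Injective fun u : T'.invRotate.obj₁ ⟶ B =>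
      ((invRotate D).map φ).hom₁ ≫ u) :
    Function.Surjective fun u : T'.obj₂ ⟶ B => φ.hom₂ ≫ u := by
  intro y
  obtain ⟨x₁, hx₁⟩ := h₁ (T.mor₁ ≫ y)
  have : T'.invRotate.mor₁ ≫ x₁ = 0 := h₀ (a₂ := 0) (by
    change ((invRotate D).map φ).hom₁ ≫ T'.invRotate.mor₁ ≫ x₁ = _ ≫ 0
    rw [comp_zero, ← Category.assoc]
    refine (congrArg (· ≫ x₁) ((invRotate D).map φ).comm₁.symm).trans ?_
    refine (Category.assoc _ _ _).trans ((congrArg (T.invRotate.mor₁ ≫ ·) hx₁).trans ?_)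
    refine (Category.assoc _ _ _).symm.trans ?_
    exact (congrArg (· ≫ y) (comp_distTriang_mor_zero₁₂ _ (inv_rot_of_distTriang _ hT))).trans
      zero_comp)
  obtain ⟨x, hx⟩ : ∃ x : T'.obj₂ ⟶ B, x₁ = T'.mor₁ ≫ x :=
    T'.invRotate.yoneda_exact₂ (inv_rot_of_distTriang _ hT') x₁ this
  subst hx
  have hy : T.mor₁ ≫ (y - φ.hom₂ ≫ x) = 0 := by
    rw [Preadditive.comp_sub, φ.comm₁_assoc]
    exact sub_eq_zero.2 hx₁.symm
  obtain ⟨z, hz⟩ := T.yoneda_exact₂ hT _ hy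
  obtain ⟨z', rfl⟩ := h₃ z
  refine ⟨x + T'.mor₂ ≫ z', ?_⟩
  simp only [Preadditive.comp_add, ← φ.comm₂_assoc]
  rw [← hz]
  abel

end

section

variable (P : ObjectProperty D)

/-- `f` is a coreflection with respect to `P`. -/
def IsCoreflection {A X : D} (f : A ⟶ X) : Prop :=
  ∀ A', P A' → Function.Bijective fun u : A' ⟶ A => u ≫ f

/-- `g` is a reflection with respect to `P`. -/
def IsReflection {X B : D} (g : X ⟶ B) : Prop :=
  ∀ B', P B' → Function.Bijective fun u : B ⟶ B' => g ≫ u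

variable {P} [P.IsStableUnderShift ℤ]

omit [Preadditive D] [HasZeroObject D] [∀ n : ℤ, (shiftFunctor D n).Additive] [Pretriangulated D] in
theorem IsCoreflection.shift {A X : D} {f : A ⟶ X} (h : IsCoreflection P f) (m : ℤ) :
    IsCoreflection P (f⟦m⟧') := fun A' hA' => by
  let adj := (shiftEquiv D m).symm.toAdjunction
  have := h _ (P.le_shift (-m) _ hA')
  have e : (fun u : A' ⟶ A⟦m⟧ => u ≫ f⟦m⟧') =
      adj.homEquiv A' X ∘ (fun u => u ≫ f) ∘ (adj.homEquiv A' A).symm := funext fun u => by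
    refine ((adj.homEquiv_naturality_right _ f).trans ?_).symm
    erw [Equiv.apply_symm_apply]
    rfl
  rw [e]
  exact (Equiv.bijective _).comp (this.comp (Equiv.bijective _))

omit [Preadditive D] [HasZeroObject D] [∀ n : ℤ, (shiftFunctor D n).Additive] [Pretriangulated D] in
theorem IsReflection.shift {X B : D} {g : X ⟶ B} (h : IsReflection P g) (m : ℤ) :
    IsReflection P (g⟦m⟧') := fun B' hB' => by
  let adj := (shiftEquiv D m).toAdjunction
  have := h _ (P.le_shift (-m) _ hB')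
  have e : (fun u : B⟦m⟧ ⟶ B' => g⟦m⟧' ≫ u) =
      (adj.homEquiv X B').symm ∘ (fun u => g ≫ u) ∘ adj.homEquiv B B' := funext fun u => by
    refine ((adj.homEquiv_naturality_left_symm g _).trans ?_).symm
    erw [Equiv.symm_apply_apply]
    rfl
  rw [e]
  exact (Equiv.bijective _).comp (this.comp (Equiv.bijective _))

theorem isCoreflection_of_rightOrthogonal {T : Triangle D} (hT : T ∈ distTriang D)
    (hB : P.rightOrthogonal T.obj₃) : IsCoreflection P T.mor₁ := fun A' hA' => by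
  refine ⟨fun u v huv => ?_, fun q => ?_⟩
  · obtain ⟨w, hw⟩ := T.invRotate.coyoneda_exact₂ (inv_rot_of_distTriang _ hT) (u - v)
      (by erw [Preadditive.sub_comp]; exact sub_eq_zero.2 huv)
    rw [show w = 0 from (P.rightOrthogonal.le_shift (-1 : ℤ) _ hB) _ hA'] at hw
    exact sub_eq_zero.1 (hw.trans zero_comp)
  · obtain ⟨u, hu⟩ := T.coyoneda_exact₂ hT q (hB _ hA')
    exact ⟨u, hu.symm⟩

theorem rightOrthogonal_of_isCoreflection {T : Triangle D} (hT : T ∈ distTriang D)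
    (h : IsCoreflection P T.mor₁) : P.rightOrthogonal T.obj₃ := fun A' e hA' => by
  have h1 : e ≫ T.mor₃ = 0 := ((h.shift (1 : ℤ)) A' hA').1 (a₂ := 0) (by
    simp only [Category.assoc, comp_distTriang_mor_zero₃₁ _ hT, comp_zero, zero_comp])
  obtain ⟨e', rfl⟩ := T.coyoneda_exact₃ hT e h1
  obtain ⟨a, rfl⟩ := (h A' hA').2 e'
  simp [comp_distTriang_mor_zero₁₂ _ hT]

theorem isReflection_of_leftOrthogonal {T : Triangle D} (hT : T ∈ distTriang D)
    (hA : P.leftOrthogonal T.obj₁) : IsReflection P T.mor₂ := fun B' hB' => by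
  refine ⟨fun u v huv => ?_, fun q => ?_⟩
  · obtain ⟨w, hw⟩ := T.yoneda_exact₃ hT (u - v)
      (by rw [Preadditive.comp_sub]; exact sub_eq_zero.2 huv)
    rw [show w = 0 from (P.leftOrthogonal.le_shift (1 : ℤ) _ hA) _ hB', comp_zero] at hw
    exact sub_eq_zero.1 hw
  · obtain ⟨u, hu⟩ := T.yoneda_exact₂ hT q (hA _ hB')
    exact ⟨u, hu.symm⟩

theorem leftOrthogonal_of_isReflection {T : Triangle D} (hT : T ∈ distTriang D)
    (h : IsReflection P T.mor₂) : P.leftOrthogonal T.obj₁ := fun B' e hB' => by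
  have h1 : T.invRotate.mor₁ ≫ e = 0 := ((h.shift (-1 : ℤ)) B' hB').1 (a₂ := 0) (by
    change T.mor₂⟦(-1 : ℤ)⟧' ≫ T.invRotate.mor₁ ≫ e = _ ≫ 0
    rw [comp_zero, ← Category.assoc]
    have : T.mor₂⟦(-1 : ℤ)⟧' ≫ T.invRotate.mor₁ = 0 := by
      simp
      erw [Preadditive.comp_neg, ← Functor.map_comp_assoc, comp_distTriang_mor_zero₂₃ _ hT,
        Functor.map_zero, zero_comp, neg_zero]
    exact (congrArg (· ≫ e) this).trans zero_comp)
  obtain ⟨e', he'⟩ : ∃ e' : T.obj₂ ⟶ B', e = T.mor₁ ≫ e' :=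
    T.invRotate.yoneda_exact₂ (inv_rot_of_distTriang _ hT) e h1
  obtain ⟨a, rfl⟩ := (h B' hB').2 e'
  simp [he', comp_distTriang_mor_zero₁₂_assoc _ hT]

theorem exists_triangle_iff_coreflection (X : D) :
    (∃ (A B : D) (f : A ⟶ X) (g : X ⟶ B) (h : B ⟶ A⟦(1 : ℤ)⟧),
      Triangle.mk f g h ∈ distTriang D ∧ P A ∧ P.rightOrthogonal B) ↔
    ∃ (A : D) (f : A ⟶ X), P A ∧ IsCoreflection P f := by
  constructor
  · rintro ⟨A, B, f, g, h, hT, hA, hB⟩
    exact ⟨A, f, hA, isCoreflection_of_rightOrthogonal hT hB⟩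
  · rintro ⟨A, f, hA, hf⟩
    obtain ⟨B, g, h, hT⟩ := distinguished_cocone_triangle f
    exact ⟨A, B, f, g, h, hT, hA, rightOrthogonal_of_isCoreflection hT hf⟩

theorem exists_triangle_iff_reflection (X : D) :
    (∃ (A B : D) (f : A ⟶ X) (g : X ⟶ B) (h : B ⟶ A⟦(1 : ℤ)⟧),
      Triangle.mk f g h ∈ distTriang D ∧ P B ∧ P.leftOrthogonal A) ↔
    ∃ (B : D) (g : X ⟶ B), P B ∧ IsReflection P g := by
  constructor
  · rintro ⟨A, B, f, g, h, hT, hB, hA⟩
    exact ⟨B, g, hB, isReflection_of_leftOrthogonal hT hA⟩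
  · rintro ⟨B, g, hB, hg⟩
    obtain ⟨A, f, h, hT⟩ := distinguished_cocone_triangle₁ g
    exact ⟨A, B, f, g, h, hT, hB, leftOrthogonal_of_isReflection hT hg⟩

end

end GrothLib.TriCat
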